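import Cfsg.Agent.Lib.Recog.ThreeOrders.CaseII.Engine.Automizer
import Cfsg.Agent.Lib.Coprime.Abelian
import Mathlib.RingTheory.ZMod.UnitsCyclic
import Mathlib.GroupTheory.SpecificGroups.Cyclic

/-!
# A transitive automizer with an element of order `r` fixing an involution

It is `Z ⋊ ⟨l⟩` with `Z` regular on the involutions and a normal subgroup of prime order `q > r`.
-/

set_option autoImplicit false
set_option linter.unusedSectionVars false
set_option linter.style.haveILetI false

namespace CfsgLib.Recog.ThreeOrders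

open Subgroup CfsgLib.Invol CfsgLib.EqOrder CfsgLib.FiveOrbit
open CfsgLib.InvChar.OneComposite hiding Spec

universe u

variable {G : Type u} [Group G] [Finite G] {r : ℕ}

/-- The structure of the automizer. -/
structure AutData (r : ℕ) (T : Sylow 2 G) (a : (T : Subgroup G)) (l y : (autT T).range) (q : ℕ) :
    Prop where
  hq : q.Prime
  lt : r < q
  hy : orderOf y = q
  hl : orderOf l = r
  normal : ∃ k : ℕ, l * y * l⁻¹ = y ^ k
  free : ∀ z : (autT T).range, Commute z y → z ≠ 1 → ¬ r ∣ orderOf z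
  outside : ∀ z : (autT T).range, ¬ Commute z y → r ∣ orderOf z
  fpf : ∀ z : (autT T).range, Commute z y → z ≠ 1 → ∀ b : (T : Subgroup G), z • b = b → b = 1
  card_cent : Nat.card (Subgroup.centralizer ({y} : Set (autT T).range)) + 1 = Nat.card (T : Subgroup G)
  stab : ∀ g : (autT T).range, g • a = a → g ∈ zpowers l
  fix : ∀ b : (T : Subgroup G), l • b = b → b = 1 ∨ b = a
  bound : ∀ D : Subgroup (autT T).range,
    Nat.card D ≤ r * Nat.card (D ⊓ Subgroup.centralizer ({y} : Set (autT T).range) : Subgroup (autT T).range)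

namespace Engine

variable (h : Engine G r)
include h

/-- A normal subgroup of prime order other than `r`. -/
theorem exists_normal_prime {T : Sylow 2 G} (hT : Trans T) {a : (T : Subgroup G)} (ha : a ≠ 1)
    {l : (autT T).range} (hl : orderOf l = r) (hla : l • a = a) :
    ∃ (y : (autT T).range) (q : ℕ), q.Prime ∧ q ≠ r ∧ orderOf y = q ∧ (zpowers y).Normal := by
  classical
  haveI := Fact.mk h.hs
  have hl1 : l ≠ 1 := fun e => h.hs.ne_one (by rw [← hl, e, orderOf_one])
  obtain ⟨N₁, hN, hne, hcomm, q, hq, hexp⟩ := h.exists_minimal T ⟨⟨l, 1, hl1⟩⟩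
  have hqr : q ≠ r := by
    rintro rfl
    obtain ⟨x, hx, hxr⟩ : ∃ x : (autT T).range, x ≠ 1 ∧ orderOf x ≠ q := by
      by_contra hall
      push Not at hall
      exact hl1 (h.stab_trivial_of_sgroup hT hall ha hla)
    obtain ⟨p, hp, hpd⟩ := Nat.exists_prime_and_dvd (fun e => hx (orderOf_eq_one_iff.1 e))
    have hpr : p ≠ q := by
      rintro rfl
      exact hxr (h.range_order_s hpd)
    obtain ⟨x', hx'⟩ := exists_orderOf_of_dvd hpd
    exact h.minimal_ne_r hT hN hne hexp (x := x') (by rw [hx']; exact hp) (by rw [hx']; exact hpr)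
  obtain ⟨y, hy, hy1⟩ := N₁.bot_or_exists_ne_one.resolve_left hne
  haveI := Fact.mk hq
  have hyq : orderOf y = q := orderOf_eq_prime (hexp y hy) hy1
  refine ⟨y, q, hq, hqr, hyq, ?_⟩
  letI : CommGroup (T : Subgroup G) :=
    { (inferInstance : Group (T : Subgroup G)) with
      mul_comm := fun a b => Subtype.ext (h.comm_sylow T a.2 b.2).eq }
  haveI : IsMulCommutative N₁ := ⟨⟨fun a b => Subtype.ext (hcomm a a.2 b b.2)⟩⟩
  haveI : IsCyclic N₁ := by
    by_contra hnc
    haveI : Nontrivial (T : Subgroup G) := ⟨⟨a, 1, ha⟩⟩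
    haveI : Fact (Nat.Prime 2) := ⟨Nat.prime_two⟩
    have hcop : (Nat.card N₁).Coprime (Nat.card (T : Subgroup G)) := by
      rw [T.card_eq_multiplicity]
      exact Nat.Coprime.pow_right _ (Nat.coprime_two_right.2
        ((h.odd_range T).of_dvd_nat (Subgroup.card_subgroup_dvd_card _)))
    obtain ⟨n, hn, v, hv, hfix⟩ := CfsgLib.Coprime.exists_ne_one_fixed_of_not_isCyclic
      ((autT T).range.subtype.comp N₁.subtype) hcop hnc
    have hn1 : (n : (autT T).range) ≠ 1 := fun e => hn (Subtype.ext e)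
    exact hv (h.fix_eq_one hn1 (fun e => hqr ((orderOf_eq_prime (hexp _ n.2) hn1).symm.trans e)) hfix)
  obtain ⟨g, hg⟩ := IsCyclic.exists_generator (α := N₁)
  have hgy : N₁ = zpowers y := by
    refine le_antisymm (fun n hn => ?_) (zpowers_le.2 hy)
    have hgq : orderOf g ∣ q := orderOf_dvd_of_pow_eq_one (Subtype.ext (hexp g g.2))
    have hc : Nat.card N₁ ∣ q := orderOf_eq_card_of_forall_mem_zpowers hg ▸ hgq
    have he : zpowers y = N₁ := Subgroup.eq_of_le_of_card_ge (zpowers_le.2 hy)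
      (by rw [Nat.card_zpowers, hyq]; exact Nat.le_of_dvd hq.pos hc)
    exact he.symm ▸ hn
  exact hgy ▸ hN

theorem exists_autData {T : Sylow 2 G} (hT : Trans T) {a : (T : Subgroup G)} (ha : a ≠ 1)
    {l : (autT T).range} (hl : orderOf l = r) (hla : l • a = a) :
    ∃ (y : (autT T).range) (q : ℕ), AutData r T a l y q := by
  classical
  haveI := Fact.mk h.hs
  obtain ⟨y, q, hq, hqr, hy, hYn⟩ := h.exists_normal_prime hT ha hl hla
  haveI := hYn
  haveI := Fact.mk hq
  set Y := zpowers y with hY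
  set Z := Subgroup.centralizer ({y} : Set (autT T).range) with hZdef
  set κ : (autT T).range →* MulAut Y := MulAut.conjNormal with hκdef
  have hκ : ∀ g, κ g = 1 ↔ Commute g y := fun g => by
    constructor
    · intro e
      have := MulAut.conjNormal_apply (H := Y) g ⟨y, mem_zpowers y⟩
      rw [← hκdef, e, MulAut.one_apply] at this
      exact mul_inv_eq_iff_eq_mul.1 this.symm
    · intro hc
      refine MulEquiv.ext fun v => Subtype.ext ?_
      obtain ⟨i, hi⟩ := v.2
      have hi : y ^ i = (v : (autT T).range) := hi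
      rw [hκdef, MulAut.conjNormal_apply, ← hi, MulAut.one_apply, (hc.zpow_right i).eq, mul_inv_cancel_right, hi]
  have hκl : κ l ≠ 1 := fun e => h.not_commute_range hl hq hqr hy ((hκ l).1 e)
  have hfree : ∀ z : (autT T).range, Commute z y → z ≠ 1 → ¬ r ∣ orderOf z := fun z hz _ hd =>
    h.not_commute_range (h.range_order_s hd) hq hqr hy hz
  have hfpf : ∀ z : (autT T).range, Commute z y → z ≠ 1 → ∀ b : (T : Subgroup G), z • b = b → b = 1 :=
    fun z hz hz1 b hb => h.fix_eq_one hz1 (fun e => hfree z hz hz1 (e ▸ dvd_rfl)) hb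
  -- the image of `κ` has order `r`
  haveI : IsCyclic (MulAut Y) := by
    haveI : IsCyclic (ZMod (Nat.card Y))ˣ := ZMod.isCyclic_units_prime
      (by rw [hY, Nat.card_zpowers, hy]; exact hq)
    exact isCyclic_of_surjective (IsCyclic.mulAutMulEquiv Y).symm.toMonoidHom
      (IsCyclic.mulAutMulEquiv Y).symm.surjective
  have hkl : orderOf (κ l) = r :=
    ((Nat.dvd_prime h.hs).1 (hl ▸ orderOf_map_dvd κ l)).resolve_left fun e => hκl (orderOf_eq_one_iff.1 e)
  have hrcard : r ∣ Nat.card κ.range := hkl ▸ Subgroup.orderOf_dvd_natCard κ.range ⟨l, rfl⟩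
  have hcard : Nat.card κ.range = r := by
    obtain ⟨γ, hγ⟩ := IsCyclic.exists_generator (α := κ.range)
    obtain ⟨g, hg⟩ := γ.2
    have ho : orderOf (κ g) = Nat.card κ.range := by
      rw [hg, Subgroup.orderOf_coe, orderOf_eq_card_of_forall_mem_zpowers hγ]
    have hdg : Nat.card κ.range ∣ orderOf g := ho ▸ orderOf_map_dvd κ g
    exact Nat.dvd_antisymm (h.range_order_s (hrcard.trans hdg) ▸ hdg) hrcard
  have hrange : κ.range = zpowers (κ l) :=
    (Subgroup.eq_of_le_of_card_ge (zpowers_le.2 (show κ l ∈ κ.range from ⟨l, rfl⟩))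
      (by rw [Nat.card_zpowers, hkl, hcard])).symm
  have hlt : r < q := by
    have h1 : r ∣ Nat.totient q := by
      have e : Nat.card (MulAut Y) = Nat.totient q := by
        rw [IsCyclic.card_mulAut, hY, Nat.card_zpowers, hy]
      exact e ▸ hcard ▸ Subgroup.card_subgroup_dvd_card _
    rw [Nat.totient_prime hq] at h1
    have := hq.two_le
    have := Nat.le_of_dvd (by omega) h1
    omega
  have hsplit : ∀ g : (autT T).range, ∃ i : ℤ, Commute (g * (l ^ i)⁻¹) y := fun g => by
    obtain ⟨i, hi⟩ : κ g ∈ zpowers (κ l) := hrange ▸ ⟨g, rfl⟩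
    refine ⟨i, (hκ _).1 ?_⟩
    rw [map_mul, map_inv, map_zpow]
    exact mul_inv_eq_one.2 hi.symm
  have hlfix : ∀ i : ℤ, (l ^ i) • a = a := fun i =>
    zpow_mem (show l ∈ MulAction.stabilizer _ a from hla) i
  have hstab : ∀ g : (autT T).range, g • a = a → g ∈ zpowers l := fun g hg => by
    obtain ⟨i, hi⟩ := hsplit g
    refine ⟨i, (mul_inv_eq_one.1 ?_).symm⟩
    by_contra hne
    refine ha (hfpf _ hi hne a ?_)
    rw [mul_smul, inv_smul_eq_iff.2 (hlfix i).symm, hg]
  have hsmul : ∀ (g : (autT T).range) (b : (T : Subgroup G)), b ≠ 1 → g • b ≠ 1 := fun g b hb e =>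
    hb (MulAction.injective g (e.trans (smul_one g).symm))
  have hreg : ∀ b : (T : Subgroup G), b ≠ 1 → ∃ z : (autT T).range, Commute z y ∧ z • a = b := fun b hb => by
    obtain ⟨m, hm, hme⟩ := hT a a.2 (fun e => ha (Subtype.ext e)) b b.2 (fun e => hb (Subtype.ext e))
    set g : (autT T).range := ⟨autT T ⟨m, hm⟩, _, rfl⟩
    obtain ⟨i, hi⟩ := hsplit g
    refine ⟨_, hi, ?_⟩
    rw [mul_smul, inv_smul_eq_iff.2 (hlfix i).symm]
    exact Subtype.ext hme
  have hinj : ∀ z z' : (autT T).range, Commute z y → Commute z' y → z • a = z' • a → z = z' := by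
    intro z z' hz hz' e
    by_contra hne
    refine ha (hfpf (z'⁻¹ * z) (hz'.inv_left.mul_left hz) (fun e1 => hne (inv_mul_eq_one.1 e1).symm) a ?_)
    rw [mul_smul, e, inv_smul_smul]
  refine ⟨y, q, hq, hlt, hy, hl, ?_, hfree, fun z hz => ?_, hfpf, ?_, hstab, fun b hb => ?_, fun D => ?_⟩
  · obtain ⟨k, -, hk⟩ := Finset.mem_image.1 (mem_zpowers_iff_mem_range_orderOf.1
      (hYn.conj_mem y (mem_zpowers y) l))
    exact ⟨k, hk.symm⟩
  · have h1 : orderOf (κ z) = r := ((Nat.dvd_prime h.hs).1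
      (hcard ▸ Subgroup.orderOf_dvd_natCard κ.range ⟨z, rfl⟩)).resolve_left
        fun e => hz ((hκ z).1 (orderOf_eq_one_iff.1 e))
    exact h1 ▸ orderOf_map_dvd κ z
  · let f : Z → {b : (T : Subgroup G) // b ≠ 1} := fun z => ⟨(z : (autT T).range) • a, hsmul _ a ha⟩
    have hf : Function.Bijective f := by
      refine ⟨fun z z' e => Subtype.ext (hinj _ _ (mem_centralizer_singleton_iff.1 z.2)
        (mem_centralizer_singleton_iff.1 z'.2) (congrArg Subtype.val e)), fun b => ?_⟩
      obtain ⟨z, hz, hzb⟩ := hreg b b.2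
      exact ⟨⟨z, mem_centralizer_singleton_iff.2 hz⟩, Subtype.ext hzb⟩
    rw [Nat.card_eq_of_bijective f hf]
    haveI := Fintype.ofFinite (T : Subgroup G)
    rw [Nat.card_eq_fintype_card, Fintype.card_subtype_compl, Fintype.card_subtype_eq,
      Nat.card_eq_fintype_card]
    have := Fintype.card_pos (α := (T : Subgroup G))
    omega
  · by_contra hne
    push Not at hne
    obtain ⟨z, hz, rfl⟩ := hreg b hne.1
    obtain ⟨k, hk⟩ : ∃ k : ℤ, y ^ k = l * y * l⁻¹ := hYn.conj_mem y (mem_zpowers y) l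
    have hz' : Commute (l * z * l⁻¹) y := by
      have h1 : Commute (l * z * l⁻¹) (l * y * l⁻¹) := (Commute.conj_iff l).2 hz
      rw [← hk] at h1
      have hcop : Nat.Coprime k.natAbs q := by
        refine ((hq.coprime_iff_not_dvd).2 fun hd => ?_).symm
        have h2 : y ^ k = 1 :=
          orderOf_dvd_iff_zpow_eq_one.1 (hy ▸ Int.natCast_dvd.2 hd)
        rw [h2] at hk
        exact hq.ne_one (by rw [← hy, conj_eq_one_iff.1 hk.symm, orderOf_one])
      have h1' : Commute (l * z * l⁻¹) (y ^ k.natAbs) := by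
        rcases Int.natAbs_eq k with e | e
        · rwa [e, zpow_natCast] at h1
        · rw [e, zpow_neg, zpow_natCast] at h1
          simpa using h1.inv_right
      obtain ⟨m, hm⟩ := exists_pow_eq_self_of_coprime (x := y) (n := k.natAbs) (hy ▸ hcop)
      exact hm ▸ h1'.pow_right m
    have he : (l * z * l⁻¹) • a = z • a := by
      rw [mul_smul, mul_smul, inv_smul_eq_iff.2 hla.symm, hb]
    have hcomm : Commute l z := mul_inv_eq_iff_eq_mul.1 (hinj _ _ hz' hz he)
    have hz1 : z ≠ 1 := fun e => hne.2 (by rw [e, one_smul])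
    obtain ⟨p, hp, hpd⟩ := Nat.exists_prime_and_dvd (fun e => hz1 (orderOf_eq_one_iff.1 e))
    obtain ⟨z₀, hz₀⟩ := exists_orderOf_of_dvd (x := z) hpd
    obtain ⟨k', hk'⟩ := hpd
    have hk0 : k' ≠ 0 := fun e => (orderOf_pos z).ne' (by rw [hk', e, mul_zero])
    have ho : orderOf (z ^ k') = p := by
      rw [orderOf_pow_of_dvd hk0 (hk' ▸ dvd_mul_left k' p), hk', Nat.mul_div_cancel p (Nat.pos_of_ne_zero hk0)]
    exact h.not_commute_range hl hp (fun e => hfree z hz hz1 (e ▸ hk' ▸ dvd_mul_right p k'))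
      ho (hcomm.pow_right k')
  · set ψ := κ.comp D.subtype
    have h2 := Subgroup.card_mul_index ψ.ker
    rw [Subgroup.index_ker] at h2
    have h3 : Nat.card ψ.range ≤ r := hcard ▸ Subgroup.card_le_of_le (fun _ ⟨d, hd⟩ => ⟨d, hd⟩)
    have h4 : Nat.card ψ.ker ≤ Nat.card (D ⊓ Z : Subgroup (autT T).range) :=
      Nat.card_le_card_of_injective (fun d => ⟨(d.1 : (autT T).range), d.1.2,
        mem_centralizer_singleton_iff.2 ((hκ _).1 (MonoidHom.mem_ker.1 d.2)).eq⟩)
        fun a b e => Subtype.ext (Subtype.ext (congrArg Subtype.val e :))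
    rw [← h2, mul_comm r]
    exact Nat.mul_le_mul h4 h3

end Engine

end CfsgLib.Recog.ThreeOrders
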