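import Cfsg.Agent.Lib.Recog.ThreeOrders.CaseII.Engine.Strong
import Cfsg.Agent.Lib.InvChar.OneComposite.Automizer
import Cfsg.Agent.Lib.Solvable.MinNormal

/-!
# The automizer of `T` when `N(T)` is transitive on the involutions of `T`

Its nontrivial elements have prime order, those of order other than `r` act without fixed points,
and a minimal normal subgroup is not an `r`-group unless all of it is.
-/

set_option autoImplicit false
set_option linter.unusedSectionVars false
set_option linter.style.haveILetI false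

namespace CfsgLib.Recog.ThreeOrders

open Subgroup CfsgLib.Invol CfsgLib.EqOrder CfsgLib.FiveOrbit
open CfsgLib.InvChar.OneComposite hiding Spec

variable {G : Type*} [Group G] [Finite G] {r : ℕ}

namespace Engine

variable (h : Engine G r)
include h

/-- A fixed-point-free automorphism has trivial norms. -/
theorem norm_fpf {T : Sylow 2 G} {y : MulAut (T : Subgroup G)} {q : ℕ}
    (hyq : y ^ q = 1) (hfix : ∀ a : (T : Subgroup G), y a = a → a = 1) (v : (T : Subgroup G))
    [IsMulCommutative (T : Subgroup G)] :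
    open scoped IsMulCommutative in ∏ i ∈ Finset.range q, (y ^ i) v = 1 := by
  open scoped IsMulCommutative in
  refine hfix _ ?_
  rw [map_prod]
  have e : ∀ i, y ((y ^ i) v) = (y ^ (i + 1)) v := fun i => by rw [pow_succ', MulAut.mul_apply]
  rw [Finset.prod_congr rfl fun i _ => e i]
  have h1 := Finset.prod_range_succ' (fun i => (y ^ i) v) q
  have h2 := Finset.prod_range_succ (fun i => (y ^ i) v) q
  rw [h1] at h2
  simp only [hyq, pow_zero, MulAut.one_apply] at h2
  exact mul_right_cancel h2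

theorem fix_eq_one {T : Sylow 2 G} {l : (autT T).range} (hl : l ≠ 1) (hlr : orderOf l ≠ r)
    {a : (T : Subgroup G)} (ha : (l : MulAut (T : Subgroup G)) a = a) : a = 1 := by
  obtain ⟨p, hp, hpd⟩ := Nat.exists_prime_and_dvd (fun e => hl (orderOf_eq_one_iff.1 e))
  have hpr : p ≠ r := by
    rintro rfl
    exact hlr (h.range_order_s hpd)
  obtain ⟨k, hk⟩ := hpd
  have hk0 : k ≠ 0 := fun e => (orderOf_pos l).ne' (by rw [hk, e, mul_zero])
  have ho : orderOf (l ^ k) = p := by
    rw [orderOf_pow_of_dvd hk0 (hk ▸ dvd_mul_left k p), hk, Nat.mul_div_cancel p (Nat.pos_of_ne_zero hk0)]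
  obtain ⟨n, hn, hno⟩ := h.lift_prime hp ho
  refine Subtype.ext (h.fpf_of_ne (T := T) (n := (n : G)) hp (fun e => h.range_ne_two (l ^ k) (ho.trans e))
    hpr hno a.2 ?_)
  have hfix : (l : MulAut (T : Subgroup G)) • a = a := ha
  have hst : ((l ^ k : (autT T).range) : MulAut (T : Subgroup G)) • a = a := by
    rw [SubgroupClass.coe_pow]
    exact pow_mem (show (l : MulAut (T : Subgroup G)) ∈ MulAction.stabilizer _ a from hfix) k
  rw [← hn] at hst
  exact mul_inv_eq_iff_eq_mul.1 (congrArg Subtype.val hst)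

theorem eq_one_of_fixed {T : Sylow 2 G} (hT : Trans T) {N₀ : Subgroup (autT T).range} (hN : N₀.Normal)
    (hne : N₀ ≠ ⊥) {a : (T : Subgroup G)}
    (ha : ∀ n ∈ N₀, ((n : (autT T).range) : MulAut (T : Subgroup G)) a = a) : a = 1 := by
  by_contra ha1
  refine hne ((Subgroup.eq_bot_iff_forall _).2 fun n hn => Subtype.ext (MulEquiv.ext fun b => ?_))
  by_cases hb : b = 1
  · rw [hb, map_one, map_one]
  obtain ⟨m, hm, hme⟩ := hT a a.2 (fun e => ha1 (Subtype.ext e)) b b.2 (fun e => hb (Subtype.ext e))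
  set l : (autT T).range := ⟨autT T ⟨m, hm⟩, ⟨_, rfl⟩⟩
  have hb' : b = (l : MulAut (T : Subgroup G)) a := Subtype.ext hme.symm
  have h1 := ha _ (hN.conj_mem n hn l⁻¹)
  rw [inv_inv, Subgroup.coe_mul, Subgroup.coe_mul, InvMemClass.coe_inv, MulAut.mul_apply,
    MulAut.mul_apply, MulAut.inv_apply, MulEquiv.symm_apply_eq, ← hb'] at h1
  simpa using h1

/-- If the automizer has elements of order `r` and of another prime order, its minimal normal
subgroups are not `r`-groups. -/
theorem minimal_ne_r {T : Sylow 2 G} (hT : Trans T) {N₀ : Subgroup (autT T).range} (hN : N₀.Normal)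
    (hne : N₀ ≠ ⊥) (hexp : ∀ n ∈ N₀, n ^ r = 1) {x : (autT T).range}
    (hq : (orderOf x).Prime) (hxr : orderOf x ≠ r) : False := by
  classical
  haveI : IsMulCommutative (T : Subgroup G) :=
    isMulCommutative_of fun a ha b hb => (h.comm_sylow T ha hb).eq
  open scoped IsMulCommutative in
  set q := orderOf x with hqdef
  have hNodd : Odd (Nat.card N₀) := (h.odd_range T).of_dvd_nat (Subgroup.card_subgroup_dvd_card _)
  obtain ⟨a, ha, ha1⟩ := h.exists_ne_one T
  have key := pow_card_eq_one_of_norms (autT T).range.subtype N₀ hq.pos (x := x)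
    (fun n hn => hN.conj_mem n hn x) (fun i hi hiq n hn hc => ?_)
    (fun _ v => ?_) (fun v n hn => ?_) (⟨a, ha⟩ : (T : Subgroup G))
  · have h2 : (⟨a, ha⟩ : (T : Subgroup G)) ^ 2 = 1 :=
      Subtype.ext (by rw [SubgroupClass.coe_pow, pow_two]; exact h.sq_sylow T a ha)
    refine ha1 (congrArg Subtype.val (orderOf_eq_one_iff.1 (Nat.eq_one_of_dvd_coprimes
      (Nat.coprime_two_left.2 hNodd) (orderOf_dvd_of_pow_eq_one h2) (orderOf_dvd_of_pow_eq_one key))))
  · by_contra hn1
    have hor : orderOf n = r := ((Nat.dvd_prime h.hs).1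
      (orderOf_dvd_of_pow_eq_one (hexp n hn))).resolve_left fun e => hn1 (orderOf_eq_one_iff.1 e)
    have hoq : orderOf (x ^ i) = q := by
      refine orderOf_eq_prime (hp := ⟨hq⟩) (by rw [← pow_mul, mul_comm, pow_mul, hqdef, pow_orderOf_eq_one, one_pow]) ?_
      exact pow_ne_one_of_lt_orderOf hi.ne' hiq
    exact h.not_commute_range hor hq hxr hoq hc
  · refine h.eq_one_of_fixed hT hN hne fun m hm => ?_
    rw [map_prod]
    refine Fintype.prod_equiv (Equiv.mulLeft (⟨m, hm⟩ : N₀)) _ _ fun n => ?_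
    simp [MulAut.mul_apply]
  · have hy : orderOf (n * x * n⁻¹) = q := orderOf_conj_eq n x
    have := h.norm_fpf (y := ((n * x * n⁻¹ : (autT T).range) : MulAut (T : Subgroup G))) (q := q)
      (by rw [← SubgroupClass.coe_pow, ← hy, pow_orderOf_eq_one]; rfl)
      (fun a ha => h.fix_eq_one (fun e => hq.one_lt.ne' (by rw [← hy, e, orderOf_one]))
        (fun e => hxr (hy.symm.trans e)) ha) v
    simpa using this

theorem exists_minimal (T : Sylow 2 G) (hne : Nontrivial (autT T).range) :
    ∃ N₀ : Subgroup (autT T).range, N₀.Normal ∧ N₀ ≠ ⊥ ∧ (∀ a ∈ N₀, ∀ b ∈ N₀, a * b = b * a) ∧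
      ∃ s, s.Prime ∧ ∀ n ∈ N₀, n ^ s = 1 := by
  obtain ⟨N₀, hN, hne, hmin⟩ := CfsgLib.Solvable.exists_minimal_normal (G := (autT T).range)
  haveI := h.isSolvable_range T
  haveI := CfsgLib.Solvable.isMulCommutative_of_minimal_normal hne hmin
  obtain ⟨s, hs, hexp⟩ := CfsgLib.Solvable.exists_prime_pow_eq_one_of_minimal_normal hne hmin
  exact ⟨N₀, hN, hne, fun a ha b hb => congrArg Subtype.val
    (mul_comm' (⟨a, ha⟩ : N₀) ⟨b, hb⟩), s, hs, hexp⟩

theorem nontrivial_range {T : Sylow 2 G} (hT : Trans T) : Nontrivial (autT T).range := by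
  obtain ⟨a, ha, ha1⟩ := h.exists_ne_one T
  obtain ⟨b, hb, hb1, hba⟩ : ∃ b ∈ (T : Subgroup G), b ≠ 1 ∧ b ≠ a := by
    by_contra hne
    push Not at hne
    have h4 := h.four_le T
    let f : Bool → (T : Subgroup G) := fun i => if i then 1 else ⟨a, ha⟩
    have hf : Function.Surjective f := fun x => by
      by_cases hx : (x : G) = 1
      · exact ⟨true, Subtype.ext (by simp [f, hx])⟩
      · exact ⟨false, Subtype.ext (by simp [f, hne x x.2 hx])⟩
    have := Nat.card_le_card_of_surjective f hf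
    simp at this
    omega
  obtain ⟨n, hn, he⟩ := hT a ha ha1 b hb hb1
  refine ⟨⟨⟨autT T ⟨n, hn⟩, ⟨_, rfl⟩⟩, 1, fun e => ?_⟩⟩
  have := autT_eq_one_iff.1 (congrArg Subtype.val e) a ha
  rw [this.eq, mul_inv_cancel_right] at he
  exact hba he.symm

/-- If every non-trivial element of the automizer has order `r`, stabilisers of involutions are
trivial. -/
theorem stab_trivial_of_sgroup {T : Sylow 2 G} (hT : Trans T)
    (hall : ∀ x : (autT T).range, x ≠ 1 → orderOf x = r) {l : (autT T).range} {a' : (T : Subgroup G)}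
    (ha' : a' ≠ 1) (hla : l • a' = a') : l = 1 := by
  classical
  haveI := Fact.mk h.hs
  haveI : Fact (Nat.Prime 2) := ⟨Nat.prime_two⟩
  set a : G := (a' : G) with hadef
  have hp : IsPGroup r (autT T).range := IsPGroup.iff_orderOf.2 fun x => by
    by_cases hx : x = 1
    · exact ⟨0, by rw [hx, orderOf_one, pow_zero]⟩
    · exact ⟨1, by rw [hall x hx, pow_one]⟩
  haveI : Nontrivial (autT T).range := h.nontrivial_range hT
  haveI := hp.center_nontrivial
  obtain ⟨⟨z, hz⟩, hz1⟩ := exists_ne (1 : Subgroup.center (autT T).range)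
  have hz1' : z ≠ 1 := fun e => hz1 (Subtype.ext e)
  have hzN : (zpowers z).Normal := ⟨fun y hy g => by
    obtain ⟨i, rfl⟩ := hy
    rw [show g * z ^ i * g⁻¹ = z ^ i from
      mul_inv_eq_iff_eq_mul.2 ((Commute.zpow_right (Subgroup.mem_center_iff.1 hz g : Commute g z) i).eq)]
    exact zpow_mem (mem_zpowers z) i⟩
  -- the orbit of `a` is everything
  have horb : MulAction.orbit (autT T).range a' = {b | b ≠ 1} := by
    ext b
    constructor
    · rintro ⟨g, rfl⟩ e
      refine ha' ?_
      have e' : g • a' = g • (1 : (T : Subgroup G)) := by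
        show g • a' = g • 1
        rw [smul_one]; exact e
      exact MulAction.injective g e'
    · intro hb
      obtain ⟨m, hm, hme⟩ := hT a a'.2 (fun e => ha' (Subtype.ext e)) b b.2 (fun e => hb (Subtype.ext e))
      exact ⟨⟨autT T ⟨m, hm⟩, ⟨_, rfl⟩⟩, Subtype.ext hme⟩
  have hcard : Nat.card (MulAction.orbit (autT T).range a') + 1 = Nat.card (T : Subgroup G) := by
    rw [horb, Nat.card_coe_set_eq, show {b : (T : Subgroup G) | b ≠ 1} = {1}ᶜ from rfl,
      Set.ncard_compl, Set.ncard_singleton]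
    have := Nat.card_pos (α := (T : Subgroup G))
    omega
  obtain ⟨k, hk⟩ := hp.card_orbit a'
  obtain ⟨m, hm⟩ := IsPGroup.iff_card.1 T.2
  have h4 := h.four_le T
  have hm2 : 2 ≤ m := by
    by_contra hlt
    have := Nat.pow_le_pow_right two_pos (show m ≤ 1 by omega)
    omega
  have hk1 := exponent_eq_one h.hs h.s_odd hm2 (by rw [← hm, ← hcard, hk])
  -- the central element moves `a` to everything
  have hzfix : ∀ i : ℕ, 0 < i → i < r → z ^ i • a' ≠ a' := by
    intro i hi hir e
    refine ha' (h.eq_one_of_fixed hT hzN (by rw [Ne, zpowers_eq_bot]; exact hz1') fun y hy => ?_)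
    obtain ⟨j, rfl⟩ := hy
    have hgen : z ∈ zpowers (z ^ i) := by
      obtain ⟨u, hu⟩ := exists_pow_eq_self_of_coprime (x := z) (n := i) (by
        rw [hall z hz1']
        exact ((h.hs.coprime_iff_not_dvd).2 fun hd => by
          have := Nat.le_of_dvd hi hd; omega).symm)
      have hp' := pow_mem (mem_zpowers (z ^ i)) u
      rwa [hu] at hp'
    obtain ⟨j', hj'⟩ : z ^ j ∈ zpowers (z ^ i) := zpow_mem hgen j
    show (z ^ j) • a' = a'
    rw [← hj']
    exact MulAction.mem_stabilizer_iff.1 (zpow_mem (show z ^ i ∈ MulAction.stabilizer (autT T).range a' from e) j')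
  let f : Fin r → MulAction.orbit (autT T).range a' := fun i => ⟨z ^ (i : ℕ) • a', MulAction.mem_orbit _ _⟩
  have hf : Function.Surjective f := by
    refine (Function.Injective.bijective_of_nat_card_le ?_ (by rw [hk, hk1, pow_one, Nat.card_fin])).2
    intro i j e
    have e' : z ^ (i : ℕ) • a' = z ^ (j : ℕ) • a' := congrArg Subtype.val e
    by_contra hij
    rcases lt_or_gt_of_ne (Fin.val_ne_of_ne hij) with hlt | hlt
    · refine hzfix ((j : ℕ) - i) (by omega) (by omega) (MulAction.injective (z ^ (i : ℕ)) ?_)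
      show z ^ (i : ℕ) • z ^ ((j : ℕ) - i) • a' = z ^ (i : ℕ) • a'
      rw [← mul_smul, ← pow_add, Nat.add_sub_cancel' hlt.le, e']
    · refine hzfix ((i : ℕ) - j) (by omega) (by omega) (MulAction.injective (z ^ (j : ℕ)) ?_)
      show z ^ (j : ℕ) • z ^ ((i : ℕ) - j) • a' = z ^ (j : ℕ) • a'
      rw [← mul_smul, ← pow_add, Nat.add_sub_cancel' hlt.le, e']
  refine Subtype.ext (MulEquiv.ext fun b => ?_)
  by_cases hb : b = 1
  · rw [hb, map_one, map_one]
  obtain ⟨i, hi⟩ := hf ⟨b, horb ▸ hb⟩
  have hb' : z ^ (i : ℕ) • a' = b := congrArg Subtype.val hi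
  show l • b = b
  rw [← hb', ← mul_smul, show l * z ^ (i : ℕ) = z ^ (i : ℕ) * l from
    (Commute.pow_right (Subgroup.mem_center_iff.1 hz l : Commute l z) _).eq, mul_smul, hla]

end Engine

end CfsgLib.Recog.ThreeOrders
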