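import Cfsg.Agent.Lib.Recog.ThreeOrders.CaseII.Cores
import Cfsg.Agent.Lib.InvChar.OneComposite.Norm
import Cfsg.Agent.Lib.InvChar.OneComposite.Core

/-!
# Simple groups of the second case: basic facts
-/

set_option autoImplicit false
set_option linter.unusedSectionVars false
set_option linter.style.haveILetI false

namespace CfsgLib.Recog.ThreeOrders

open Subgroup CfsgLib.Invol
open CfsgLib.InvChar.OneComposite (odd_of_mem oddSub mul_pow_mem)

universe u

variable {G : Type u} [Group G] [Finite G] {s : ℕ}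

/-- A simple group of the second case. -/
structure Engine (G : Type u) [Group G] (s : ℕ) : Prop where
  spec : Spec G s
  simple : IsSimpleGroup G

/-- A subgroup with a non-trivial normal subgroup of odd order is solvable. -/
theorem Spec.solvable_of_odd_normal (h : Spec G s) {K : Subgroup G} {V : Subgroup G} (hVK : V ≤ K)
    (hKV : K ≤ Subgroup.normalizer (V : Set G)) (hV : Odd (Nat.card V)) (hne : V ≠ ⊥) :
    Group.IsSolvable K := by
  by_contra hns
  haveI hVn : (V.subgroupOf K).Normal :=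
    ⟨fun v hv k => (Subgroup.mem_normalizer_iff.1 (hKV k.2) _).1 hv⟩
  have ho : Odd (Nat.card (V.subgroupOf K)) := by
    rwa [Nat.card_congr (subgroupOfEquivOfLe hVK).toEquiv]
  refine hne ?_
  have key : V.subgroupOf K = ⊥ := by
    by_cases hc : CfsgLib.Invol.CIT.IsCIT K
    · exact odd_eq_bot_of_cit hns hc hVn ho
    obtain ⟨l, hl⟩ := exists_spec (h.h3.subgroup K) hc
    exact hl.odd_normal_eq_bot hns hVn ho
  rw [← Subgroup.map_subgroupOf_eq_of_le hVK, key, Subgroup.map_bot]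

namespace Engine

variable (h : Engine G s)
include h

theorem hs : s.Prime := h.spec.hs

theorem s_odd : Odd s := h.spec.s_odd

theorem s_ne_two : s ≠ 2 := h.spec.s_ne_two

theorem sq_sylow (T : Sylow 2 G) : ∀ a ∈ (T : Subgroup G), a * a = 1 := fun _ ha =>
  h.spec.sylow_sq T ha

theorem comm_sylow (T : Sylow 2 G) {a b : G} (ha : a ∈ (T : Subgroup G)) (hb : b ∈ (T : Subgroup G)) :
    Commute a b :=
  h.spec.sylow_comm T ha hb

theorem invol_sylow {T : Sylow 2 G} {a : G} (ha : a ∈ (T : Subgroup G)) (h1 : a ≠ 1) :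
    orderOf a = 2 :=
  invol_of_mul_self (h.sq_sylow T a ha) h1

theorem mem_of_normalizer {T : Sylow 2 G} {x : G}
    (hn : x ∈ Subgroup.normalizer ((T : Subgroup G) : Set G)) (hx : x * x = 1) :
    x ∈ (T : Subgroup G) :=
  CAHyp.mem_T_of_sq hn hx

theorem not_solvable : ¬ Group.IsSolvable G := by
  intro hsol
  haveI := h.simple
  haveI := hsol
  obtain ⟨x, hx⟩ := h.spec.wit
  have hcomm := IsSimpleGroup.comm_iff_isSolvable.2 hsol
  have hsurj : ∀ y : G, y ≠ 1 → zpowers y = ⊤ := fun y hy =>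
    ((IsSimpleGroup.eq_bot_or_eq_top_of_normal (zpowers y)
      ⟨fun n hn g => by rwa [hcomm g n, mul_inv_cancel_right]⟩).resolve_left
      (fun e => hy (zpowers_eq_bot.1 e)))
  have h2 : orderOf (x ^ 2) = s := by
    rw [orderOf_pow_of_dvd two_ne_zero (hx ▸ dvd_mul_right 2 s), hx, Nat.mul_div_cancel_left s two_pos]
  have h2' : x ^ 2 ≠ 1 := fun e => h.hs.ne_one (h2.symm.trans (orderOf_eq_one_iff.2 e))
  have h3 := Subgroup.orderOf_dvd_natCard (zpowers (x ^ 2)) (hsurj _ h2' ▸ mem_top x)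
  rw [Nat.card_zpowers, h2, hx] at h3
  have := Nat.le_of_dvd h.hs.pos h3
  have := h.hs.pos
  omega

theorem exists_ne_one (T : Sylow 2 G) : ∃ a ∈ (T : Subgroup G), a ≠ 1 := by
  obtain ⟨t, ht⟩ := h.spec.exists_invol
  obtain ⟨g, hg⟩ := exists_conj_invol_mem_sylow T ht
  exact ⟨_, hg, fun e => invol_ne_one ht (conj_eq_one_iff.1 e)⟩

theorem exists_two (T : Sylow 2 G) :
    ∃ a ∈ (T : Subgroup G), ∃ b ∈ (T : Subgroup G), a ≠ 1 ∧ b ≠ 1 ∧ a ≠ b := by
  obtain ⟨y, r, -, -, -, hyT, t, ht, hnc⟩ := h.spec.exists_mover h.not_solvable T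
  refine ⟨t, ht, y * t * y⁻¹, hyT t ht, fun e => hnc (e ▸ Commute.one_right y),
    fun e => hnc ((conj_eq_one_iff.1 e).symm ▸ Commute.one_right y), fun e => hnc ?_⟩
  exact mul_inv_eq_iff_eq_mul.1 e.symm

theorem four_le (T : Sylow 2 G) : 4 ≤ Nat.card (T : Subgroup G) := by
  classical
  obtain ⟨a, ha, b, hb, ha1, hb1, hab⟩ := h.exists_two T
  haveI : Fact (Nat.Prime 2) := ⟨Nat.prime_two⟩
  obtain ⟨n, hn⟩ := IsPGroup.iff_card.1 T.2
  rw [hn]
  have h3 : 3 ≤ Nat.card (T : Subgroup G) := by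
    let f : Fin 3 → (T : Subgroup G) := ![1, ⟨a, ha⟩, ⟨b, hb⟩]
    have hf : Function.Injective f := by
      intro i j e
      fin_cases i <;> fin_cases j <;> simp [f, Subtype.ext_iff] at e ⊢ <;>
        first
          | exact ha1 e | exact ha1 e.symm | exact hb1 e | exact hb1 e.symm | exact hab e
          | exact hab e.symm
    simpa using Nat.card_le_card_of_injective f hf
  rcases n with _ | _ | n
  · rw [hn] at h3; omega
  · rw [hn] at h3; omega
  · calc 4 = 2 ^ 2 := by norm_num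
      _ ≤ 2 ^ (n + 1 + 1) := Nat.pow_le_pow_right two_pos (by omega)

theorem not_isCyclic_sylow (T : Sylow 2 G) : ¬ IsCyclic (T : Subgroup G) := by
  intro hc
  obtain ⟨g, hg⟩ := hc.exists_ofOrder_eq_natCard
  have h1 : orderOf g ∣ 2 := orderOf_dvd_of_pow_eq_one (Subtype.ext (by
    rw [SubgroupClass.coe_pow, pow_two]; exact h.sq_sylow T g g.2))
  have := Nat.le_of_dvd two_pos h1
  have := h.four_le T
  omega

theorem exists_conj_mem (T : Sylow 2 G) {u : G} (hu : orderOf u = 2) :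
    ∃ g : G, g * u * g⁻¹ ∈ (T : Subgroup G) := exists_conj_invol_mem_sylow T hu

/-- Elements with only `s` in their order have order `s`. -/
theorem order_s {x : G} (hodd : Odd (orderOf x)) (hd : s ∣ orderOf x) : orderOf x = s :=
  (h.spec.s_order hd).resolve_right fun e => by
    rw [e] at hodd
    exact Nat.not_odd_iff_even.2 (even_two_mul s) hodd

/-- An odd element commuting with an involution has order `s`. -/
theorem order_of_invol {x t : G} (ht : orderOf t = 2) (hc : Commute x t) (hx : Odd (orderOf x))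
    (h1 : x ≠ 1) : orderOf x = s := by
  have he := hc.orderOf_mul_eq_mul_orderOf_of_coprime
    (by rw [ht]; exact Nat.coprime_two_right.2 hx)
  rw [ht] at he
  rcases h.spec.even_order (he ▸ dvd_mul_left 2 (orderOf x)) with e | e <;> rw [he] at e
  · exact absurd (orderOf_eq_one_iff.1 (by omega)) h1
  · omega

/-- An odd element commuting with an element of order `s` has order `s`. -/
theorem order_of_s {x y : G} (hy : orderOf y = s) (hc : Commute x y) (hx : Odd (orderOf x))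
    (h1 : x ≠ 1) : orderOf x = s := by
  obtain ⟨p, hp, hd⟩ := Nat.exists_prime_and_dvd (fun e => h1 (orderOf_eq_one_iff.1 e))
  obtain ⟨k, hk⟩ := hd
  have ho : orderOf (x ^ k) = p := by
    rw [orderOf_pow_of_dvd (by rintro rfl; rw [mul_zero] at hk; exact (orderOf_pos x).ne' hk)
      (hk ▸ dvd_mul_left k p), hk, Nat.mul_div_cancel p (Nat.pos_of_ne_zero fun e =>
        (orderOf_pos x).ne' (by rw [hk, e, mul_zero]))]
  rcases h.spec.prime_of_commute_s hp ho hy (hc.pow_left k) with rfl | rfl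
  · rw [hk] at hx
    exact absurd (hx.of_dvd_nat (dvd_mul_right 2 k)) (by decide)
  · exact h.order_s hx (hk ▸ dvd_mul_right p k)

theorem pow_s {R : Subgroup G} (hR : IsPGroup s R) {x : G} (hx : x ∈ R) : x ^ s = 1 := by
  haveI := Fact.mk h.hs
  by_cases hx1 : x = 1
  · rw [hx1, one_pow]
  obtain ⟨k, hk⟩ := IsPGroup.iff_orderOf.1 hR ⟨x, hx⟩
  rw [← Subgroup.orderOf_coe] at hk
  have hk' : orderOf x = s ^ k := hk
  rw [← h.order_s (hk' ▸ h.s_odd.pow) ?_, pow_orderOf_eq_one]
  rcases k with _ | k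
  · exact absurd (orderOf_eq_one_iff.1 (by rw [hk', pow_zero])) hx1
  · exact hk' ▸ dvd_pow_self s k.succ_ne_zero

theorem order_of_mem {R : Subgroup G} (hR : IsPGroup s R) {x : G} (hx : x ∈ R) (h1 : x ≠ 1) :
    orderOf x = s :=
  ((Nat.dvd_prime h.hs).1 (orderOf_dvd_of_pow_eq_one (h.pow_s hR hx))).resolve_left
    fun e => h1 (orderOf_eq_one_iff.1 e)

theorem odd_of_isPGroup {R : Subgroup G} (hR : IsPGroup s R) : Odd (Nat.card R) := by
  haveI := Fact.mk h.hs
  obtain ⟨k, hk⟩ := IsPGroup.iff_card.1 hR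
  rw [hk]; exact h.s_odd.pow

theorem isPGroup_s_of_order {X : Subgroup G} (hX : ∀ x ∈ X, x ≠ 1 → orderOf x = s) : IsPGroup s X := by
  haveI := Fact.mk h.hs
  refine IsPGroup.iff_orderOf.2 fun x => ?_
  rw [← Subgroup.orderOf_coe]
  by_cases hx : (x : G) = 1
  · exact ⟨0, by rw [hx, orderOf_one, pow_zero]⟩
  · exact ⟨1, by rw [hX x x.2 hx, pow_one]⟩

theorem isPGroup_of_commute {X : Subgroup G} {t : G} (ht : orderOf t = 2) (hX : Odd (Nat.card X))
    (hc : ∀ x ∈ X, Commute x t) : IsPGroup s X :=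
  h.isPGroup_s_of_order fun x hx h1 => h.order_of_invol ht (hc x hx) (odd_of_mem hX hx) h1

/-- An element of odd prime order normalising an `s`-group `V` has all norms trivial. -/
theorem pow_mul_eq_one {V : Subgroup G} (hV : IsPGroup s V) {y : G}
    (hy : y ∈ Subgroup.normalizer (V : Set G)) {q : ℕ} (hq : q.Prime) (hq2 : q ≠ 2)
    (hyq : orderOf y = q) {v : G} (hv : v ∈ V) : (v * y) ^ q = 1 := by
  obtain ⟨hm, -⟩ := mul_pow_mem (1 : V →* Multiplicative (ZMod 1)) hy ⟨v, hv⟩ q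
  rw [show y ^ q = 1 from hyq ▸ pow_orderOf_eq_one y, inv_one, mul_one] at hm
  have hd : orderOf (v * y) ∣ q * s := orderOf_dvd_of_pow_eq_one (by
    rw [pow_mul]; exact h.pow_s hV hm)
  have hodd : Odd (orderOf (v * y)) := ((hq.odd_of_ne_two hq2).mul h.s_odd).of_dvd_nat hd
  refine orderOf_dvd_iff_pow_eq_one.1 ?_
  by_cases hs : s ∣ orderOf (v * y)
  · have he := h.order_s hodd hs
    rw [he]
    by_contra hne
    -- `y` is then in `V`
    have hqs : q ≠ s := fun e => hne (e ▸ dvd_rfl)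
    obtain ⟨hm', -⟩ := mul_pow_mem (1 : V →* Multiplicative (ZMod 1)) hy ⟨v, hv⟩ s
    rw [← he, pow_orderOf_eq_one, one_mul, he] at hm'
    have hyr : y ^ s ∈ V := by simpa using inv_mem hm'
    have hys := orderOf_dvd_of_pow_eq_one (h.pow_s hV hyr)
    rw [(Nat.Coprime.orderOf_pow (by rw [hyq]; exact (Nat.coprime_primes hq h.hs).2 hqs)), hyq] at hys
    exact hqs ((Nat.prime_dvd_prime_iff_eq hq h.hs).1 hys)
  · exact ((Nat.Coprime.symm ((h.hs.coprime_iff_not_dvd).2 hs))).dvd_of_dvd_mul_right hd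

theorem norm_eq_one {V : Subgroup G} (hV : IsPGroup s V) {A : Type*} [CommGroup A] (θ : V →* A)
    {y : G} (hy : y ∈ Subgroup.normalizer (V : Set G)) {q : ℕ} (hq : q.Prime) (hq2 : q ≠ 2)
    (hyq : orderOf y = q) (v : V) :
    ∏ i ∈ Finset.range q, θ ((V.normalizerMonoidHom ⟨y, hy⟩ ^ i) v) = 1 := by
  obtain ⟨hm, he⟩ := mul_pow_mem θ hy v q
  rw [← he, ← map_one θ]
  congr 1
  refine Subtype.ext ?_
  show ((v : G) * y) ^ q * (y ^ q)⁻¹ = 1
  rw [h.pow_mul_eq_one hV hy hq hq2 hyq v.2, show y ^ q = 1 from hyq ▸ pow_orderOf_eq_one y, inv_one,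
    mul_one]

end Engine

end CfsgLib.Recog.ThreeOrders
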