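import Cfsg.Agent.Lib.Recog.ThreeOrders.CaseII.Engine.CaseAStruct
import Cfsg.Agent.Lib.Invol.CNtoCIT

/-!
# Nontrivial bounded cores are impossible

`C(a) = W × T` for the involutions `a` of `T`; an element of `N(T)` inverted by an involution outside
has order other than `r`, so the automizer is an `r'`-group and `W × T` is a TI kernel.
-/

set_option autoImplicit false
set_option linter.unusedSectionVars false
set_option linter.style.haveILetI false

namespace CfsgLib.Recog.ThreeOrders

open Subgroup CfsgLib.Invol CfsgLib.EqOrder CfsgLib.FiveOrbit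
open CfsgLib.InvChar.OneComposite hiding Spec

variable {G : Type*} [Group G] [Finite G] {r : ℕ}

namespace Engine

variable (h : Engine G r)
include h

theorem trans_of_bounded {T : Sylow 2 G} (hB : Bounded T r) : Trans T := fun _ ha ha1 _ hb hb1 =>
  h.transitive (h.se_normalizer hB) ha ha1 hb hb1

theorem no_mixed {T : Sylow 2 G} (hB : Bounded T r) {l x : (autT T).range} (hl : orderOf l = r)
    (hq : (orderOf x).Prime) (hxr : orderOf x ≠ r) : False := by
  classical
  haveI := Fact.mk h.hs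
  have hT := h.trans_of_bounded hB
  obtain ⟨hWp, hWne, hWN⟩ := h.cores_facts hB
  obtain ⟨N₀, hN, hne, -, s, hs, hexp⟩ := h.exists_minimal T (h.nontrivial_range hT)
  by_cases hsr : s = r
  · exact h.minimal_ne_r hT hN hne (hsr ▸ hexp) hq hxr
  -- the action on the centre of the cores
  set W := cores T with hW
  haveI : Nontrivial W := (Subgroup.nontrivial_iff_ne_bot W).2 hWne
  haveI := hWp.center_nontrivial
  set V := (Subgroup.center W).map W.subtype with hV
  have hVW : V ≤ W := map_subtype_le _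
  have hVp : IsPGroup r V := hWp.to_le hVW
  have hVc : ∀ a ∈ V, ∀ b ∈ V, a * b = b * a := by
    rintro _ ⟨a, ha, rfl⟩ _ ⟨b, -, rfl⟩
    exact (congrArg Subtype.val (Subgroup.mem_center_iff.1 ha b)).symm
  letI : CommGroup V :=
    { (inferInstance : Group V) with mul_comm := fun a b => Subtype.ext (hVc a a.2 b b.2) }
  have hNV : normalizer ((T : Subgroup G) : Set G) ≤ normalizer (V : Set G) := by
    intro g hg
    refine normalizer_of_conj_mem ?_
    rintro _ ⟨z, hz, rfl⟩
    exact ⟨⟨g * z * g⁻¹, (Subgroup.mem_normalizer_iff.1 (hWN hg) _).1 z.2⟩,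
      Subgroup.mem_center_iff.2 fun d => by
        have hd' : g⁻¹ * d * g ∈ W := by
          have := (Subgroup.mem_normalizer_iff.1 (inv_mem (hWN hg)) _).1 d.2
          simpa using this
        have hz' : g⁻¹ * d * g * z = z * (g⁻¹ * d * g) :=
          congrArg Subtype.val (Subgroup.mem_center_iff.1 hz ⟨_, hd'⟩)
        refine Subtype.ext ?_
        calc (d : G) * (g * z * g⁻¹) = g * (g⁻¹ * d * g * z) * g⁻¹ := by group
          _ = g * (z * (g⁻¹ * d * g)) * g⁻¹ := by rw [hz']
          _ = _ := by simp [mul_assoc], rfl⟩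
  set g : normalizer ((T : Subgroup G) : Set G) →* MulAut V :=
    V.normalizerMonoidHom.comp (Subgroup.inclusion hNV) with hg
  have hker : (autT T).rangeRestrict.ker ≤ g.ker := by
    rw [MonoidHom.ker_rangeRestrict]
    intro n hn
    obtain ⟨w, hw, a, ha, he⟩ := h.mem_centralizer_cases (autT_eq_one_iff.1 (MonoidHom.mem_ker.1 hn))
    refine MonoidHom.mem_ker.2 (MulEquiv.ext fun v => Subtype.ext ?_)
    show (n : G) * v * (n : G)⁻¹ = v
    obtain ⟨v', hv', hve⟩ := v.2
    have hve' : (v' : G) = (v : G) := hve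
    have h1 : Commute a (v : G) := h.commute_cores hB ha (hVW v.2)
    have h2 : Commute w (v : G) :=
      hve' ▸ (congrArg Subtype.val (Subgroup.mem_center_iff.1 hv' ⟨w, hw⟩) : w * (v' : G) = v' * w)
    rw [he, (h2.mul_left h1).eq, mul_inv_cancel_right]
  set χ : (autT T).range →* MulAut V :=
    MonoidHom.liftOfSurjective _ (autT T).rangeRestrict_surjective ⟨g, hker⟩ with hχdef
  have hχ : ∀ n, χ ((autT T).rangeRestrict n) = g n := fun n =>
    MonoidHom.liftOfRightInverse_comp_apply _ _ _ _ n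
  have hlift : ∀ {m : (autT T).range}, (orderOf m).Prime → ∃ n : normalizer ((T : Subgroup G) : Set G),
      χ m = g n ∧ orderOf (n : G) = orderOf m ∧ orderOf m ≠ 2 := fun {m} hm => by
    obtain ⟨n, hn, hno⟩ := h.lift_prime hm rfl
    refine ⟨n, ?_, hno, h.range_ne_two m⟩
    rw [← hχ n]
    exact congrArg χ (Subtype.ext hn.symm)
  have hl1 : l ≠ 1 := fun e => h.hs.one_lt.ne' (by rw [← hl, e, orderOf_one])
  obtain ⟨⟨v, hv⟩, hv1⟩ : ∃ v : V, v ≠ 1 := by
    obtain ⟨c, hc⟩ := exists_ne (1 : Subgroup.center W)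
    exact ⟨⟨((c : W) : G), c, c.2, rfl⟩, fun e => hc (Subtype.ext (Subtype.ext (congrArg (fun z : V => (z : G)) e)))⟩
  have hsodd : s ≠ 2 := by
    obtain ⟨n, hn, hn1⟩ := (Subgroup.bot_or_exists_ne_one _).resolve_left hne
    rintro rfl
    have h2 := (Nat.dvd_prime Nat.prime_two).1 (orderOf_dvd_of_pow_eq_one (hexp n hn))
    rcases h2 with e | e
    · exact hn1 (orderOf_eq_one_iff.1 e)
    · exact h.range_ne_two n e
  have hns : ∀ {n : (autT T).range}, n ∈ N₀ → n ≠ 1 → orderOf n = s := fun hn hn1 =>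
    ((Nat.dvd_prime hs).1 (orderOf_dvd_of_pow_eq_one (hexp _ hn))).resolve_left
      fun e => hn1 (orderOf_eq_one_iff.1 e)
  have key := pow_card_eq_one_of_norms χ N₀ h.hs.pos (x := l) (fun n hn => hN.conj_mem n hn l)
    (fun i hi hir n hn hc => ?_) (fun _ u => ?_) (fun u n hn => ?_) (⟨v, hv⟩ : V)
  · have hcop : (orderOf (⟨v, hv⟩ : V)).Coprime (Nat.card N₀) := by
      have hvr : orderOf (⟨v, hv⟩ : V) ∣ r :=
        orderOf_dvd_of_pow_eq_one (Subtype.ext (h.pow_s hVp hv))
      refine Nat.Coprime.coprime_dvd_left hvr ((h.hs.coprime_iff_not_dvd).2 fun hd => ?_)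
      obtain ⟨n, hn⟩ := exists_prime_orderOf_dvd_card' r hd
      rw [← Subgroup.orderOf_coe] at hn
      exact hsr ((hns n.2 fun e => h.hs.one_lt.ne' (by rw [← hn, e, orderOf_one])).symm.trans hn)
    exact hv1 (orderOf_eq_one_iff.1 (Nat.eq_one_of_dvd_coprimes hcop dvd_rfl (orderOf_dvd_of_pow_eq_one key)))
  · by_contra hn1
    have hor := hns hn hn1
    have hoi : orderOf (l ^ i) = r := by
      refine orderOf_eq_prime (by rw [← pow_mul, mul_comm, pow_mul, ← hl, pow_orderOf_eq_one, one_pow]) ?_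
      exact pow_ne_one_of_lt_orderOf hi.ne' (hl.symm ▸ hir)
    exact h.not_commute_range hoi hs hsr hor (show Commute n (l ^ i) from hc).symm
  · -- the product over `N₀` is fixed by `N₀`
    by_contra hz1
    set z := ∏ n : N₀, χ (n : (autT T).range) u with hz
    obtain ⟨m, hm, hm1⟩ := (Subgroup.bot_or_exists_ne_one _).resolve_left hne
    have hfix : χ m z = z := by
      rw [hz, map_prod]
      refine Fintype.prod_equiv (Equiv.mulLeft (⟨m, hm⟩ : N₀)) _ _ fun n => ?_
      simp [map_mul, MulAut.mul_apply]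
    obtain ⟨n, hn, hno, hn2⟩ := hlift (m := m) (by rw [hns hm hm1]; exact hs)
    rw [hn] at hfix
    have hc : Commute (n : G) (z : G) := mul_inv_eq_iff_eq_mul.1 (congrArg Subtype.val hfix)
    have hzr : orderOf (z : G) = r :=
      ((Nat.dvd_prime h.hs).1 (orderOf_dvd_of_pow_eq_one (h.pow_s hVp z.2))).resolve_left
        fun e => hz1 (Subtype.ext (orderOf_eq_one_iff.1 e))
    rw [hns hm hm1] at hno
    exact hsr (hno ▸ h.order_of_s hzr hc (hno.symm ▸ hs.odd_of_ne_two hsodd)
      fun e => hs.one_lt.ne' (by rw [← hno, e, orderOf_one]))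
  · have hne' : n * l * n⁻¹ ≠ 1 := fun e => hl1 (conj_eq_one_iff.1 e)
    obtain ⟨m, hm, hmo, hm2⟩ := hlift (m := n * l * n⁻¹) (by rw [orderOf_conj_eq, hl]; exact h.hs)
    rw [orderOf_conj_eq, hl] at hmo hm2
    rw [← h.norm_eq_one hVp (MonoidHom.id V) (hNV m.2) h.hs hm2 hmo u]
    refine Finset.prod_congr rfl fun i _ => ?_
    rw [map_pow, hm]
    rfl

/-- An automizer with an element of order `r` is an `r`-group. -/
theorem all_r {T : Sylow 2 G} (hB : Bounded T r) {l : (autT T).range} (hl : orderOf l = r)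
    {x : (autT T).range} (hx : x ≠ 1) : orderOf x = r := by
  by_contra hxr
  obtain ⟨p, hp, hpd⟩ := Nat.exists_prime_and_dvd (fun e => hx (orderOf_eq_one_iff.1 e))
  have hpr : p ≠ r := by
    rintro rfl
    exact hxr (h.range_order_s hpd)
  obtain ⟨k, hk⟩ := hpd
  have hk0 : k ≠ 0 := fun e => (orderOf_pos x).ne' (by rw [hk, e, mul_zero])
  have ho : orderOf (x ^ k) = p := by
    rw [orderOf_pow_of_dvd hk0 (hk ▸ dvd_mul_left k p), hk, Nat.mul_div_cancel p (Nat.pos_of_ne_zero hk0)]
  exact h.no_mixed hB hl (x := x ^ k) (by rw [ho]; exact hp) (by rw [ho]; exact hpr)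

/-- An element of `N(T)` fixing an involution of `T` centralises `T`. -/
theorem stab_trivial {T : Sylow 2 G} (hB : Bounded T r) {n : normalizer ((T : Subgroup G) : Set G)}
    {a : G} (ha : a ∈ (T : Subgroup G)) (ha1 : a ≠ 1) (hc : Commute (n : G) a) : autT T n = 1 := by
  classical
  haveI := Fact.mk h.hs
  haveI : Fact (Nat.Prime 2) := ⟨Nat.prime_two⟩
  have hT := h.trans_of_bounded hB
  by_contra hne
  set l : (autT T).range := ⟨autT T n, n, rfl⟩
  have hl1 : l ≠ 1 := fun e => hne (congrArg Subtype.val e)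
  set a' : (T : Subgroup G) := ⟨a, ha⟩
  have ha' : a' ≠ 1 := fun e => ha1 (congrArg Subtype.val e)
  have hla : l • a' = a' := Subtype.ext (show (n : G) * a * (n : G)⁻¹ = a by rw [hc.eq, mul_inv_cancel_right])
  have hlr : orderOf l = r := by
    by_contra hlr
    exact ha' (h.fix_eq_one hl1 hlr hla)
  -- so the automizer is an `r`-group
  exact hl1 (h.stab_trivial_of_sgroup hT (fun x hx => h.all_r hB hlr hx) ha' hla)

theorem centralizer_cases {T : Sylow 2 G} (hB : Bounded T r) {a c : G} (ha : a ∈ (T : Subgroup G))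
    (ha1 : a ≠ 1) (hc : Commute c a) : ∀ b ∈ (T : Subgroup G), Commute c b :=
  autT_eq_one_iff.1 (h.stab_trivial hB (n := ⟨c, h.centralizer_le hB ha ha1 hc⟩) ha ha1 hc)

theorem centralizer_core_le {T : Sylow 2 G} (hB : Bounded T r) {x c : G} (hx : x ∈ cores T)
    (hx1 : x ≠ 1) (hc : Commute c x) : c ∈ normalizer ((T : Subgroup G) : Set G) := by
  haveI := Fact.mk h.hs
  have hxr : orderOf x = r :=
    ((Nat.dvd_prime h.hs).1 (orderOf_dvd_of_pow_eq_one (h.pow_s (h.cores_facts hB).1 hx))).resolve_left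
      fun e => hx1 (orderOf_eq_one_iff.1 e)
  haveI := h.isSolvable_centralizer (Or.inr hxr)
  have hTK : (T : Subgroup G) ≤ Subgroup.centralizer ({x} : Set G) := fun a ha =>
    Subgroup.mem_centralizer_singleton_iff.2 (h.commute_cores hB ha hx).eq
  obtain ⟨w, hw, n, hn, -, rfl⟩ := h.decomp hTK (Subgroup.mem_centralizer_singleton_iff.2 hc.eq)
  exact mul_mem (h.cores_le_normalizer hB (h.le_cores (odd_oddSub _)
    (hTK.trans (le_normalizer_oddSub _)) hw)) hn

/-- An involution outside `N(T)` inverts a nontrivial element of `N(T)`, never of order `r`. -/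
theorem no_inverted_r {T : Sylow 2 G} (hB : Bounded T r) {u x : G} (hu : orderOf u = 2)
    (huN : u ∉ normalizer ((T : Subgroup G) : Set G)) (hxN : x ∈ normalizer ((T : Subgroup G) : Set G))
    (hinv : u * x * u⁻¹ = x⁻¹) : orderOf x ≠ r := by
  intro hxr
  haveI := Fact.mk h.hs
  haveI : Fact (Nat.Prime 2) := ⟨Nat.prime_two⟩
  set N := normalizer ((T : Subgroup G) : Set G) with hN
  have hse := h.se_normalizer hB
  have hx1 : x ≠ 1 := fun e => h.hs.one_lt.ne' (by rw [← hxr, e, orderOf_one])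
  have hxodd : Odd (orderOf x) := hxr ▸ h.s_odd
  obtain ⟨a, ha, ha1⟩ := h.exists_ne_one T
  have hao := h.invol_sylow ha ha1
  -- an element of `C(x)` moved by `u` into itself
  have hmove : ∀ c, Commute c x → Commute (u * c * u⁻¹) x := fun c hc => by
    have h1 := (Commute.conj_iff u).2 hc
    rw [hinv] at h1
    simpa using h1.inv_right
  by_cases hev : ∃ v, orderOf v = 2 ∧ Commute v x
  · obtain ⟨v, hv, hvx⟩ := hev
    obtain ⟨g, hg⟩ := h.exists_conj_mem T hv
    set x' := g * x * g⁻¹ with hx'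
    have hx'v : Commute x' (g * v * g⁻¹) := ((Commute.conj_iff g).2 hvx).symm
    have hgv1 : g * v * g⁻¹ ≠ 1 := fun e => invol_ne_one hv (conj_eq_one_iff.1 e)
    have hall := h.centralizer_cases hB hg hgv1 hx'v
    have hx'W : x' ∈ cores T := h.mem_cores (by rw [orderOf_conj_eq]; exact hxodd) hall
    set u' := g * u * g⁻¹ with hu'
    have hu'N : u' ∈ N := by
      refine se_mem_of_conj hse hao (le_normalizer ha) (h.centralizer_core_le hB hx'W
        (fun e => hx1 (conj_eq_one_iff.1 e)) ?_)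
      have h1 : Commute (g⁻¹ * a * g) x := by
        have := (Commute.conj_iff g⁻¹).2 (hall a ha).symm
        simpa [hx', mul_assoc] using this
      have := (Commute.conj_iff g).2 (hmove _ h1)
      simpa [hu', hx', mul_assoc] using this
    have hu'T := h.mem_of_normalizer hu'N (by rw [hu', conj_mul, invol_mul_self hu, mul_one, mul_inv_cancel])
    have h1 : u' * x' * u'⁻¹ = x'⁻¹ := by
      rw [hu', hx', show g * u * g⁻¹ * (g * x * g⁻¹) * (g * u * g⁻¹)⁻¹ = g * (u * x * u⁻¹) * g⁻¹ by group,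
        hinv]
      group
    rw [← (hall u' hu'T).eq, mul_inv_cancel_right] at h1
    exact hx1 (conj_eq_one_iff.1 (eq_one_of_odd_sq (by rw [orderOf_conj_eq]; exact hxodd)
      (mul_eq_one_iff_eq_inv.2 h1)))
  push Not at hev
  set X := Subgroup.centralizer ({x} : Set G) with hX
  have hXr : ∀ c ∈ X, c ≠ 1 → orderOf c = r := by
    intro c hc hc1
    have hcx : Commute c x := Subgroup.mem_centralizer_singleton_iff.1 hc
    rcases Nat.even_or_odd (orderOf c) with he | ho
    · rcases h.spec.even_order he.two_dvd with e | e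
      · exact absurd hcx (hev c e)
      · exfalso
        refine hev (c ^ r) ?_ (hcx.pow_left r)
        rw [orderOf_pow_of_dvd h.hs.ne_zero (e ▸ dvd_mul_left r 2), e, Nat.mul_div_cancel 2 h.hs.pos]
    · exact h.order_of_s hxr hcx ho hc1
  -- `X` meets the cores
  obtain ⟨hWp, hWne, hWN⟩ := h.cores_facts hB
  obtain ⟨w, hw, hw1, hwx⟩ : ∃ w ∈ cores T, w ≠ 1 ∧ Commute w x := by
    set ρ : zpowers x →* MulAut (cores T) :=
      (cores T).normalizerMonoidHom.comp (Subgroup.inclusion (zpowers_le.2 (hWN hxN)))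
    letI : MulAction (zpowers x) (cores T) := MulAction.compHom _ ρ
    have hzp : IsPGroup r (zpowers x) := IsPGroup.of_card (n := 1) (by rw [Nat.card_zpowers, hxr, pow_one])
    have h1 := hzp.card_modEq_card_fixedPoints (cores T)
    obtain ⟨k, hk⟩ := IsPGroup.iff_card.1 hWp
    have hk0 : k ≠ 0 := fun e => hWne (Subgroup.eq_bot_of_card_eq _ (by rw [hk, e, pow_zero]))
    have hdvd : r ∣ Nat.card (MulAction.fixedPoints (zpowers x) (cores T)) :=
      (Nat.modEq_zero_iff_dvd.1 (h1.symm.trans (Nat.modEq_zero_iff_dvd.2 (hk ▸ dvd_pow_self r hk0))))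
    haveI : Nontrivial (MulAction.fixedPoints (zpowers x) (cores T)) := by
      refine Finite.one_lt_card_iff_nontrivial.1 (lt_of_lt_of_le h.hs.one_lt (Nat.le_of_dvd ?_ hdvd))
      refine Nat.card_pos_iff.2 ⟨⟨⟨1, fun y => ?_⟩⟩, inferInstance⟩
      show ρ y 1 = 1
      exact map_one _
    obtain ⟨⟨⟨w, hw⟩, hwf⟩, hne⟩ := exists_ne
      (⟨1, fun y => map_one (ρ y)⟩ : MulAction.fixedPoints (zpowers x) (cores T))
    refine ⟨w, hw, fun e => hne (Subtype.ext (Subtype.ext e)), ?_⟩
    have e : x * w * x⁻¹ = w := congrArg Subtype.val (hwf ⟨x, mem_zpowers x⟩)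
    exact (mul_inv_eq_iff_eq_mul.1 e).symm
  have huinv : u⁻¹ = u := invol_inv hu
  have hfix : ∀ c ∈ X, Commute u c → c = 1 := by
    intro c hc huc
    by_contra hc1
    obtain ⟨g, hg⟩ := h.exists_conj_mem T hu
    have hgu1 : g * u * g⁻¹ ≠ 1 := fun e => invol_ne_one hu (conj_eq_one_iff.1 e)
    have hc'W : g * c * g⁻¹ ∈ cores T :=
      h.mem_cores (by rw [orderOf_conj_eq, hXr c hc hc1]; exact h.s_odd)
        (h.centralizer_cases hB hg hgu1 ((Commute.conj_iff g).2 huc).symm)
    have hx'N := h.centralizer_core_le hB hc'W (fun e => hc1 (conj_eq_one_iff.1 e))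
      (((Commute.conj_iff g).2 (Subgroup.mem_centralizer_singleton_iff.1 hc)).symm)
    set x' := g * x * g⁻¹ with hx'
    set u' := g * u * g⁻¹ with hu'
    have h1 : u' * x' * u'⁻¹ * x'⁻¹ ∈ (T : Subgroup G) := by
      have := mul_mem hg ((Subgroup.mem_normalizer_iff.1 hx'N u'⁻¹).1 (inv_mem hg))
      simpa [mul_assoc] using this
    have h2 : u' * x' * u'⁻¹ = x'⁻¹ := by
      rw [hu', hx', show g * u * g⁻¹ * (g * x * g⁻¹) * (g * u * g⁻¹)⁻¹ = g * (u * x * u⁻¹) * g⁻¹ by group,
        hinv]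
      group
    rw [h2] at h1
    have hxo : Odd (orderOf x') := by rw [orderOf_conj_eq]; exact hxodd
    have h3 : x'⁻¹ * x'⁻¹ = 1 := eq_one_of_two_of_odd T.2 h1
      (hxo.of_dvd_nat (by rw [← pow_two, ← orderOf_inv x']; exact orderOf_pow_dvd 2))
    exact hx1 (conj_eq_one_iff.1 (inv_eq_one.1 (eq_one_of_odd_sq (by rwa [orderOf_inv]) h3)))
  have hn : ∀ c ∈ X, u * c * u ∈ X := fun c hc => by
    have := hmove c (Subgroup.mem_centralizer_singleton_iff.1 hc)
    rw [huinv] at this
    exact Subgroup.mem_centralizer_singleton_iff.2 this.eq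
  have hwinv := CfsgLib.Recog.SymEight.inverts_of_no_fixed (invol_mul_self hu) hn hfix w
    (Subgroup.mem_centralizer_singleton_iff.2 hwx.eq)
  refine huN (se_mem_of_conj hse hao (le_normalizer ha) (h.centralizer_core_le hB hw hw1 ?_))
  have h1 := (Commute.conj_iff u).2 (h.commute_cores hB ha hw)
  rw [huinv, hwinv] at h1
  rw [huinv]
  simpa using h1.inv_right

theorem false_of_bounded {T : Sylow 2 G} (hB : Bounded T r) : False := by
  haveI := h.simple
  haveI := Fact.mk h.hs
  set N := normalizer ((T : Subgroup G) : Set G) with hN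
  have hse := h.se_normalizer hB
  -- an inverted element of `N(T)`
  obtain ⟨u, x, hu, huN, hxN, hx1, hxo, hinv⟩ : ∃ u x : G, orderOf u = 2 ∧ u ∉ N ∧ x ∈ N ∧ x ≠ 1 ∧
      Odd (orderOf x) ∧ u * x * u⁻¹ = x⁻¹ := by
    obtain ⟨u, huN, hu⟩ := se_exists_invol_notMem hse
    have hxy : ((1 : G) : G ⧸ N) ≠ (u : G ⧸ N) := fun e => huN (by
      have := QuotientGroup.eq.1 e
      rwa [inv_one, one_mul] at this)
    have hcard := se_card_swap hse hxy
    obtain ⟨a, ha, ha1⟩ := h.exists_ne_one T
    obtain ⟨b, hb, hb1, hba⟩ : ∃ b ∈ (T : Subgroup G), b ≠ 1 ∧ b ≠ a := by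
      by_contra hne
      push Not at hne
      have h4 := h.four_le T
      let f : Bool → (T : Subgroup G) := fun i => if i then 1 else ⟨a, ha⟩
      have hf : Function.Surjective f := fun x => by
        by_cases hx : (x : G) = 1
        · exact ⟨true, Subtype.ext (by simp [f, hx])⟩
        · exact ⟨false, Subtype.ext (by simp [f, hne x x.2 hx])⟩
      have := Nat.card_le_card_of_surjective f hf
      simp at this
      omega
    haveI : Nontrivial {t : G // orderOf t = 2 ∧ t ∈ N} :=
      ⟨⟨⟨a, h.invol_sylow ha ha1, le_normalizer ha⟩, ⟨b, h.invol_sylow hb hb1, le_normalizer hb⟩,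
        fun e => hba (congrArg Subtype.val e).symm⟩⟩
    haveI : Nontrivial {i : G // orderOf i = 2 ∧ i • ((1 : G) : G ⧸ N) = (u : G ⧸ N)} :=
      Finite.one_lt_card_iff_nontrivial.1 (hcard ▸ Finite.one_lt_card)
    obtain ⟨⟨i, hi, hix⟩, ⟨j, hj, hjx⟩, hij⟩ :=
      exists_pair_ne {i : G // orderOf i = 2 ∧ i • ((1 : G) : G ⧸ N) = (u : G ⧸ N)}
    have hiN : i ∉ N := fun hm => hxy ((((fix_coset_iff i 1).2 (by simpa using hm))).symm.trans hix)
    have hjiN : j * i ∈ N := by
      have e : (j * i) • ((1 : G) : G ⧸ N) = ((1 : G) : G ⧸ N) := by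
        rw [mul_smul, hix, invol_smul_swap hj hjx]
      simpa using (fix_coset_iff _ _).1 e
    refine ⟨i, j * i, hi, hiN, hjiN, fun e => hij (Subtype.ext ?_), ?_, by rw [mul_inv_rev, invol_inv hi, invol_inv hj, mul_assoc, mul_assoc j,
      invol_mul_self hi, mul_one]⟩
    · show i = j
      rw [← invol_inv hj, eq_inv_of_mul_eq_one_right e]
    · have hmem : j * i ∈ N ⊓ N.map (MulAut.conj i).toMonoidHom := ⟨hjiN, i * (j * i) * i, ?_, ?_⟩
      · exact odd_of_mem (hse.2.2 i hiN) hmem
      · have := N.inv_mem hjiN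
        rw [mul_inv_rev, invol_inv hi, invol_inv hj] at this
        rwa [show i * (j * i) * i = i * j * (i * i) by group, invol_mul_self hi, mul_one]
      · show i * (i * (j * i) * i) * i⁻¹ = j * i
        rw [invol_inv hi, show i * (i * (j * i) * i) * i = (i * i) * (j * i) * (i * i) by group,
          invol_mul_self hi, one_mul, mul_one]
  have hxr := h.no_inverted_r hB hu huN hxN hinv
  obtain ⟨hWp, hWne, -⟩ := h.cores_facts hB
  have hl1 : autT T ⟨x, hxN⟩ ≠ 1 := fun e =>
    hxr (h.order_of_mem hWp (h.mem_cores hxo (autT_eq_one_iff.1 e)) hx1)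
  -- the automizer has no element of order `r`
  have hfree : ∀ m : (autT T).range, ¬ r ∣ orderOf m := fun m hm => by
    set l : (autT T).range := ⟨autT T ⟨x, hxN⟩, _, rfl⟩
    have hlr := h.all_r hB (h.range_order_s hm) (x := l) fun e => hl1 (congrArg Subtype.val e)
    have hd : orderOf l ∣ orderOf x := by
      rw [← Subgroup.orderOf_coe l, ← Subgroup.orderOf_mk x hxN]; exact orderOf_map_dvd _ _
    exact hxr (h.order_s hxo (hlr ▸ hd))
  set A : Subgroup G := centralizer ((T : Subgroup G) : Set G) with hA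
  have hAN : A ≤ N := centralizer_le_normalizer _
  have hmemA : ∀ {c : G}, (∀ b ∈ (T : Subgroup G), Commute c b) → c ∈ A := fun hc =>
    mem_centralizer_iff.2 fun b hb => (hc b hb).eq.symm
  have hofA : ∀ {c : G}, c ∈ A → ∃ w ∈ cores T, ∃ t ∈ (T : Subgroup G), c = w * t := fun hc =>
    h.mem_centralizer_cases fun b hb => (mem_centralizer_iff.1 hc b hb).symm
  have hpow : ∀ {w t : G}, w ∈ cores T → t ∈ (T : Subgroup G) → (w * t) ^ r = t := fun {w t} hw ht => by
    obtain ⟨j, hj⟩ := h.s_odd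
    rw [(h.commute_cores hB ht hw).symm.mul_pow, h.pow_s hWp hw, one_mul, hj, pow_succ, pow_mul,
      pow_two, h.sq_sylow T t ht, one_pow, one_mul]
  have hord : ∀ {w t : G}, w ∈ cores T → w ≠ 1 → t ∈ (T : Subgroup G) → r ∣ orderOf (w * t) :=
    fun {w t} hw hw1 ht => by
    have h2 : orderOf (w ^ 2) = r := h.order_of_mem hWp (pow_mem hw 2) fun e => hw1
      (eq_one_of_odd_sq ((h.order_of_mem hWp hw hw1).symm ▸ h.s_odd) (pow_two w ▸ e))
    have := orderOf_pow_dvd (x := w * t) 2
    rwa [(h.commute_cores hB ht hw).symm.mul_pow, pow_two t, h.sq_sylow T t ht, mul_one, h2] at this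
  have hmoc : ∀ a ∈ A, a ≠ 1 → ∀ b, Commute b a → b ∈ A := by
    intro c hc hc1 b hb
    obtain ⟨w, hw, t, ht, rfl⟩ := hofA hc
    by_cases ht1 : t = 1
    swap
    · exact hmemA (h.centralizer_cases hB ht ht1 (hpow hw ht ▸ hb.pow_right r))
    subst ht1
    rw [mul_one] at hc1 hb
    have hbN := h.centralizer_core_le hB hw hc1 hb
    refine hmemA ((autT_eq_one_iff (n := (⟨b, hbN⟩ : normalizer ((T : Subgroup G) : Set G)))).1 ?_)
    by_contra hm
    obtain ⟨p, hp, hpd⟩ := Nat.exists_prime_and_dvd (fun e => hm (orderOf_eq_one_iff.1 e))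
    set m : (autT T).range := ⟨autT T ⟨b, hbN⟩, _, rfl⟩
    have hm' : orderOf m = orderOf (autT T ⟨b, hbN⟩) := (Subgroup.orderOf_coe m).symm
    have hd : orderOf m ∣ orderOf b := by
      rw [hm', ← Subgroup.orderOf_mk b hbN]; exact orderOf_map_dvd _ _
    rw [← hm'] at hpd
    obtain ⟨b', hb'⟩ := exists_prime_orderOf_dvd_card' (G := zpowers b) (hp := ⟨hp⟩) p
      (by rw [Nat.card_zpowers]; exact hpd.trans hd)
    obtain ⟨i, hi⟩ := b'.2
    rcases h.spec.prime_of_commute_s hp (x := (b' : G)) (by rw [Subgroup.orderOf_coe, hb'])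
      (h.order_of_mem hWp hw hc1) (hi ▸ hb.zpow_left i) with rfl | rfl
    · exact Nat.not_even_iff_odd.2 ((h.odd_range T).of_dvd_nat (orderOf_dvd_natCard m))
        (even_iff_two_dvd.2 hpd)
    · exact hfree m hpd
  obtain ⟨a, ha, b, hb, ha1, hb1, hab⟩ := h.exists_two T
  have hao := h.invol_sylow ha ha1
  have hctx : CfsgLib.Suzuki.TIKernel.Ctx T A :=
    { cop := by
        intro e c d he hc hd hcd
        obtain ⟨g, hg⟩ := h.exists_conj_mem T he
        have hge1 : g * e * g⁻¹ ≠ 1 := fun e' => invol_ne_one he (conj_eq_one_iff.1 e')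
        obtain ⟨w₁, hw₁, t₁, ht₁, e₁⟩ :=
          hofA (hmemA (h.centralizer_cases hB hg hge1 ((Commute.conj_iff g).2 hc)))
        obtain ⟨w₂, hw₂, t₂, ht₂, e₂⟩ :=
          hofA (hmemA (h.centralizer_cases hB hg hge1 ((Commute.conj_iff g).2 hd)))
        refine (Commute.conj_iff g).1 ?_
        rw [e₁, e₂]
        have hw : Commute w₁ w₂ := by
          by_cases h1 : w₁ = 1
          · rw [h1]; exact Commute.one_left _
          by_cases h2 : w₂ = 1
          · rw [h2]; exact Commute.one_right _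
          exfalso
          have d1 : r ∣ orderOf c := orderOf_conj_eq g c ▸ e₁.symm ▸ hord hw₁ h1 ht₁
          have d2 : r ∣ orderOf d := orderOf_conj_eq g d ▸ e₂.symm ▸ hord hw₂ h2 ht₂
          exact h.hs.not_dvd_one (hcd ▸ Nat.dvd_gcd d1 d2)
        exact (hw.mul_right (h.commute_cores hB ht₂ hw₁).symm).mul_left
          ((h.commute_cores hB ht₁ hw₂).mul_right (h.comm_sylow T ht₁ ht₂))
      stronglyEmbedded := hse
      T_le := fun t ht => hmemA fun b hb => h.comm_sylow T ht hb
      A_le_NH := hAN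
      many := ⟨a, b, ha, hb, hao, h.invol_sylow hb hb1, hab⟩
      mem_T := fun i hi hiN => h.mem_of_normalizer hiN (invol_mul_self hi)
      central := fun t ht _ c hc => (mem_centralizer_iff.1 hc t ht).symm
      conj_mem := fun d hd c hc => hmemA fun t ht => by
        have h1 : d⁻¹ * t * d ∈ (T : Subgroup G) := by
          have := (Subgroup.mem_normalizer_iff.1 (inv_mem hd) t).1 ht
          simpa using this
        have h2 := (Commute.conj_iff d).2 (show Commute c (d⁻¹ * t * d) from
          (mem_centralizer_iff.1 hc _ h1).symm)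
        simpa [mul_assoc] using h2
      mem_of_commute := hmoc
      mem_NH := fun g c hc hc1 hgc => by
        obtain ⟨w, hw, t, ht, rfl⟩ := hofA hc
        by_cases ht1 : t = 1
        swap
        · have hconj : g * t * g⁻¹ ∈ N := by
            have := hAN (pow_mem hgc r)
            rwa [conj_pow, hpow hw ht] at this
          exact se_mem_of_conj hse (h.invol_sylow ht ht1) (le_normalizer ht) hconj
        subst ht1
        have h1 : Commute a (g * (w * 1) * g⁻¹) := mem_centralizer_iff.1 hgc a ha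
        have h2 : Commute (g⁻¹ * a * g) (w * 1) := by
          have := (Commute.conj_iff g⁻¹).2 h1
          simpa [mul_assoc] using this
        have h3 := inv_mem (se_mem_of_conj hse hao (le_normalizer ha) (g := g⁻¹)
          (by rw [inv_inv]; exact hAN (hmoc _ hc hc1 _ h2)))
        rwa [inv_inv] at h3 }
  obtain ⟨w, hw, hw1⟩ := (cores T).bot_or_exists_ne_one.resolve_left hWne
  obtain ⟨k, hk⟩ := IsPGroup.iff_orderOf.1 hctx.isPGroup_two
    ⟨w, hmemA fun b hb => (h.commute_cores hB hb hw).symm⟩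
  rw [Subgroup.orderOf_mk, h.order_of_mem hWp hw hw1] at hk
  exact h.s_ne_two ((Nat.prime_dvd_prime_iff_eq h.hs Nat.prime_two).1
    (h.hs.dvd_of_dvd_pow hk.dvd))

end Engine

end CfsgLib.Recog.ThreeOrders
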