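import Cfsg.Agent.Lib.Recog.ThreeOrders.CaseII.Engine.AutB
import Cfsg.Agent.Lib.Invol.Strong
import Cfsg.Agent.Lib.Recog.SymEight.Tools

/-!
# Trivial cores: at most three involutions centralise an element of order `r`
-/

set_option autoImplicit false
set_option linter.unusedSectionVars false
set_option linter.style.haveILetI false

namespace CfsgLib.Recog.ThreeOrders

open Subgroup CfsgLib.Invol CfsgLib.EqOrder CfsgLib.FiveOrbit
open CfsgLib.InvChar.OneComposite hiding Spec

universe u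

variable {G : Type u} [Group G] [Finite G] {r : ℕ}

/-- All cores of involutions of `T` are trivial. -/
def NoCores (T : Sylow 2 G) : Prop := ∀ a ∈ (T : Subgroup G), a ≠ 1 → core a = ⊥

/-- An element `x` of order `r` centralising the involution `a` of `T`. -/
structure FixPair (r : ℕ) (T : Sylow 2 G) (a x : G) : Prop where
  ha : a ∈ (T : Subgroup G)
  ha1 : a ≠ 1
  hx : orderOf x = r
  comm : Commute x a

namespace Engine

variable (h : Engine G r)
include h

theorem le_normalizer_of_noCores {T : Sylow 2 G} (hT : NoCores T) {a c : G} (ha : a ∈ (T : Subgroup G))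
    (ha1 : a ≠ 1) (hc : Commute c a) : c ∈ Subgroup.normalizer ((T : Subgroup G) : Set G) := by
  obtain ⟨w, hw, n, hn, -, rfl⟩ := h.decomp_centralizer ha ha1 hc
  rw [hT a ha ha1, Subgroup.mem_bot] at hw
  rwa [hw, one_mul]

theorem mem_T_of_noCores {T : Sylow 2 G} (hT : NoCores T) {c : G}
    (hc : ∀ b ∈ (T : Subgroup G), Commute c b) : c ∈ (T : Subgroup G) := by
  obtain ⟨b, hb, ho⟩ := h.odd_part_centralizer hc
  obtain ⟨a, ha, ha1⟩ := h.exists_ne_one T
  have hcb : ∀ d ∈ (T : Subgroup G), Commute (c * b) d := fun d hd =>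
    (hc d hd).mul_left (h.comm_sylow T hb hd)
  have h1 := h.le_core (Y := zpowers (c * b)) ha ha1 (by rw [Nat.card_zpowers]; exact ho)
    (fun y ⟨i, hi⟩ => hi ▸ (hcb a ha).zpow_left i)
    (fun d hd y ⟨i, hi⟩ => by
      subst hi
      rw [← ((hcb d hd).zpow_left i).eq, mul_inv_cancel_right]
      exact zpow_mem (mem_zpowers _) i)
  rw [hT a ha ha1] at h1
  rw [eq_inv_of_mul_eq_one_left (Subgroup.mem_bot.1 (h1 (mem_zpowers _)))]
  exact inv_mem hb

theorem se_of_noCores {T : Sylow 2 G} (hT : NoCores T) :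
    Cfsg.IsStronglyEmbedded (Subgroup.normalizer ((T : Subgroup G) : Set G)) := by
  haveI := h.simple
  refine h.isStronglyEmbedded (fun e => ?_) le_rfl fun a ha ha1 c hc =>
    h.le_normalizer_of_noCores hT ha ha1 hc
  rcases IsSimpleGroup.eq_bot_or_eq_top_of_normal _ (Subgroup.normalizer_eq_top_iff.1 e) with e' | e'
  · obtain ⟨a, ha, ha1⟩ := h.exists_ne_one T
    exact ha1 (Subgroup.mem_bot.1 (e' ▸ ha))
  · obtain ⟨g, hg⟩ := h.spec.wit
    have h2 := orderOf_dvd_of_pow_eq_one (n := 2) ((pow_two g).trans (h.sq_sylow T g (e' ▸ mem_top g)))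
    rw [hg] at h2
    have := Nat.le_of_dvd two_pos h2
    have := h.hs.two_le
    omega

theorem trans_of_noCores {T : Sylow 2 G} (hT : NoCores T) : Trans T := fun _ ha ha1 _ hb hb1 =>
  h.transitive (h.se_of_noCores hT) ha ha1 hb hb1

theorem exists_fixPair (T : Sylow 2 G) : ∃ a x : G, FixPair r T a x := by
  obtain ⟨g, hg⟩ := h.spec.wit
  have h2 : orderOf (g ^ r) = 2 := by
    rw [orderOf_pow_of_dvd h.hs.ne_zero (hg ▸ dvd_mul_left r 2), hg, Nat.mul_div_cancel 2 h.hs.pos]
  have hr : orderOf (g ^ 2) = r := by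
    rw [orderOf_pow_of_dvd two_ne_zero (hg ▸ dvd_mul_right 2 r), hg, Nat.mul_div_cancel_left r two_pos]
  obtain ⟨c, hc⟩ := h.exists_conj_mem T h2
  exact ⟨_, c * g ^ 2 * c⁻¹, hc, fun e => invol_ne_one h2 (conj_eq_one_iff.1 e),
    (orderOf_conj_eq c _).trans hr, (Commute.conj_iff c).2 ((Commute.refl g).pow_pow 2 r)⟩

variable {T : Sylow 2 G} (hT : NoCores T) {a x : G} (hP : FixPair r T a x)
include hT hP

theorem x_mem : x ∈ Subgroup.normalizer ((T : Subgroup G) : Set G) :=
  h.le_normalizer_of_noCores hT hP.ha hP.ha1 hP.comm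

theorem exists_data : ∃ (y : (autT T).range) (q : ℕ),
    AutData r T ⟨a, hP.ha⟩ ⟨autT T ⟨x, h.x_mem hT hP⟩, _, rfl⟩ y q := by
  haveI := Fact.mk h.hs
  have hx1 : x ≠ 1 := fun e => h.hs.ne_one (by rw [← hP.hx, e, orderOf_one])
  refine h.exists_autData (h.trans_of_noCores hT) (fun e => hP.ha1 (congrArg Subtype.val e)) ?_
    (Subtype.ext (show x * a * x⁻¹ = a by rw [hP.comm.eq, mul_inv_cancel_right]))
  refine orderOf_eq_prime (Subtype.ext ?_) fun e => hx1 ?_
  · rw [SubgroupClass.coe_pow, OneMemClass.coe_one, ← map_pow, ← map_one (autT T)]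
    exact congrArg _ (Subtype.ext (show x ^ r = 1 from hP.hx ▸ pow_orderOf_eq_one x))
  · exact eq_one_of_two_of_odd T.2
      (h.mem_T_of_noCores hT (autT_eq_one_iff.1 (congrArg Subtype.val e))) (hP.hx ▸ h.s_odd)

/-- An element centralising `a` is a power of `x` modulo `T`. -/
theorem mod_T_of_commute {c : G} (hc : Commute c a) : ∃ i : ℤ, (x ^ i)⁻¹ * c ∈ (T : Subgroup G) := by
  obtain ⟨y, q, D⟩ := h.exists_data hT hP
  set nc : Subgroup.normalizer ((T : Subgroup G) : Set G) := ⟨c, h.le_normalizer_of_noCores hT hP.ha hP.ha1 hc⟩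
  set g : (autT T).range := ⟨autT T nc, nc, rfl⟩
  obtain ⟨i, hi⟩ := D.stab g (Subtype.ext (show c * a * c⁻¹ = a by rw [hc.eq, mul_inv_cancel_right]))
  set nx : Subgroup.normalizer ((T : Subgroup G) : Set G) := ⟨x, h.x_mem hT hP⟩
  have hone : autT T ((nx ^ i)⁻¹ * nc) = 1 := by
    rw [map_mul, map_inv, map_zpow, inv_mul_eq_one]
    exact congrArg Subtype.val hi
  refine ⟨i, ?_⟩
  have := h.mem_T_of_noCores hT (autT_eq_one_iff.1 hone)
  rwa [Subgroup.coe_mul, Subgroup.coe_inv, SubgroupClass.coe_zpow] at this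

theorem fix_x {b : G} (hb : b ∈ (T : Subgroup G)) (hc : Commute x b) : b = 1 ∨ b = a := by
  obtain ⟨y, q, D⟩ := h.exists_data hT hP
  rcases D.fix ⟨b, hb⟩ (Subtype.ext (show x * b * x⁻¹ = b by rw [hc.eq, mul_inv_cancel_right])) with e | e
  · exact Or.inl (congrArg Subtype.val e)
  · exact Or.inr (congrArg Subtype.val e)

/-- `C(a) ∩ C(x) = ⟨x a⟩`. -/
theorem mem_zpowers_of_commute {c : G} (hca : Commute c a) (hcx : Commute c x) :
    c ∈ zpowers (x * a) := by
  obtain ⟨i, hi⟩ := h.mod_T_of_commute hT hP hca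
  have hao := h.invol_sylow hP.ha hP.ha1
  have hxr : (x * a) ^ (r + 1) = x := by
    obtain ⟨j, hj⟩ := h.s_odd
    rw [hP.comm.mul_pow, pow_succ x, ← hP.hx, pow_orderOf_eq_one, one_mul, hP.hx,
      show r + 1 = 2 * (j + 1) by omega, pow_mul a, pow_two, invol_mul_self hao, one_pow, mul_one]
  have har : (x * a) ^ r = a := by
    obtain ⟨j, hj⟩ := h.s_odd
    rw [hP.comm.mul_pow, ← hP.hx, pow_orderOf_eq_one, one_mul, hP.hx, hj, pow_succ, pow_mul,
      pow_two, invol_mul_self hao, one_pow, one_mul]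
  have hxm : x ∈ zpowers (x * a) := by
    have := pow_mem (mem_zpowers (x * a)) (r + 1); rwa [hxr] at this
  have ham : a ∈ zpowers (x * a) := by
    have := pow_mem (mem_zpowers (x * a)) r; rwa [har] at this
  have hc' : c = x ^ i * ((x ^ i)⁻¹ * c) := (mul_inv_cancel_left _ _).symm
  rw [hc']
  refine mul_mem (zpow_mem hxm i) ?_
  rcases h.fix_x hT hP hi (((Commute.refl x).zpow_right i).inv_right.mul_right hcx.symm) with e | e <;>
    rw [e]
  · exact one_mem _
  · exact ham

/-- An element centralising `a` and normalising `⟨x⟩` centralises `x`. -/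
theorem commute_of_normalize {n : G} (hna : Commute n a) (hn : n * x * n⁻¹ ∈ zpowers x) :
    Commute n x := by
  obtain ⟨i, ht⟩ := h.mod_T_of_commute hT hP hna
  set t := (x ^ i)⁻¹ * n with htdef
  have hnx : n = x ^ i * t := (mul_inv_cancel_left _ _).symm
  have htx : t * x * t⁻¹ ∈ zpowers x := by
    have h1 := mul_mem (mul_mem (inv_mem (zpow_mem (mem_zpowers x) i)) hn) (zpow_mem (mem_zpowers x) i)
    rwa [hnx, show (x ^ i)⁻¹ * (x ^ i * t * x * (x ^ i * t)⁻¹) * x ^ i = t * x * t⁻¹ by group] at h1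
  have h2 : t * x * t⁻¹ * x⁻¹ ∈ (T : Subgroup G) := by
    have := mul_mem ht ((Subgroup.mem_normalizer_iff.1 (h.x_mem hT hP) t⁻¹).1 (inv_mem ht))
    simpa [mul_assoc] using this
  have h3 : t * x * t⁻¹ * x⁻¹ ∈ zpowers x := mul_mem htx (inv_mem (mem_zpowers x))
  have h4 := eq_one_of_two_of_odd T.2 h2 (odd_of_mem (by rw [Nat.card_zpowers, hP.hx]; exact h.s_odd) h3)
  have h5 : Commute t x := mul_inv_eq_iff_eq_mul.1 (mul_inv_eq_one.1 h4)
  rw [hnx]
  exact ((Commute.refl x).zpow_left i).mul_left h5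

/-- An element of order `r` commuting with an involution is conjugate to a power of `x`. -/
theorem conj_x {v b : G} (hv : orderOf v = r) (hb : orderOf b = 2) (hvb : Commute v b) :
    ∃ (g : G) (i : ℤ), v = g * x ^ i * g⁻¹ := by
  haveI := Fact.mk h.hs
  obtain ⟨c, hc⟩ := isConj_iff.1 (se_isConj (h.se_of_noCores hT) hb (h.invol_sylow hP.ha hP.ha1))
  set K := Subgroup.centralizer ({a} : Set G)
  have hv' : c * v * c⁻¹ ∈ K :=
    mem_centralizer_singleton_iff.2 (hc ▸ (Commute.conj_iff c).2 hvb).eq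
  have hx' : x ∈ K := mem_centralizer_singleton_iff.2 hP.comm.eq
  have hbd : ∀ P : Sylow r K, Nat.card (P : Subgroup K) ≤ r := by
    intro P
    have key : ∀ z : K, z ∈ (P : Subgroup K) →
        ∃ i : ℤ, (x ^ i)⁻¹ * (z : G) ∈ (T : Subgroup G) := fun z _ =>
      h.mod_T_of_commute hT hP (mem_centralizer_singleton_iff.1 z.2)
    choose i hi using key
    let f : ↥(P : Subgroup K) → zpowers x := fun z => ⟨x ^ i z z.2, zpow_mem (mem_zpowers x) _⟩
    have hf : Function.Injective f := by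
      intro z z' e
      have e' : x ^ i z z.2 = x ^ i z' z'.2 := congrArg Subtype.val e
      have h1 := mul_mem (inv_mem (hi z z.2)) (hi z' z'.2)
      rw [mul_inv_rev, inv_inv, e', mul_assoc, mul_inv_cancel_left] at h1
      have ho : Odd (orderOf (((z : K) : G)⁻¹ * ((z' : K) : G))) := by
        have hP2 : IsPGroup r ((P : Subgroup K).map K.subtype) := P.2.map _
        exact odd_of_mem (h.odd_of_isPGroup hP2)
          (mul_mem (inv_mem (mem_map_of_mem _ z.2)) (mem_map_of_mem _ z'.2))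
      exact Subtype.ext (Subtype.ext (inv_mul_eq_one.1 (eq_one_of_two_of_odd T.2 h1 ho)))
    have h1 := Nat.card_le_card_of_injective f hf
    rwa [Nat.card_zpowers, hP.hx] at h1
  have hsyl : ∀ {z : G} (hz : z ∈ K), orderOf z = r →
      ∃ P : Sylow r K, (P : Subgroup K) = zpowers ⟨z, hz⟩ := by
    intro z hz ho
    have hp : IsPGroup r (zpowers (⟨z, hz⟩ : K)) :=
      IsPGroup.of_card (n := 1) (by rw [Nat.card_zpowers, Subgroup.orderOf_mk, ho, pow_one])
    obtain ⟨P, hP'⟩ := hp.exists_le_sylow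
    refine ⟨P, (Subgroup.eq_of_le_of_card_ge hP' ?_).symm⟩
    rw [Nat.card_zpowers, Subgroup.orderOf_mk, ho]
    exact hbd P
  obtain ⟨P, hP'⟩ := hsyl hv' (by rw [orderOf_conj_eq, hv])
  obtain ⟨Q, hQ'⟩ := hsyl hx' hP.hx
  obtain ⟨k, hk⟩ := MulAction.exists_smul_eq K Q P
  have hm : (⟨c * v * c⁻¹, hv'⟩ : K) ∈ ((k • Q : Sylow r K) : Subgroup K) := by
    rw [hk, hP']; exact mem_zpowers _
  obtain ⟨w, hw, hwe⟩ := hm
  rw [hQ'] at hw
  obtain ⟨i, rfl⟩ := hw
  have e : (k : G) * x ^ i * (k : G)⁻¹ = c * v * c⁻¹ := by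
    simpa using congrArg Subtype.val hwe
  refine ⟨c⁻¹ * k, i, ?_⟩
  rw [show c⁻¹ * (k : G) * x ^ i * (c⁻¹ * (k : G))⁻¹ = c⁻¹ * ((k : G) * x ^ i * (k : G)⁻¹) * c by group, e]
  group

/-- At most three involutions centralise `x`. -/
theorem invol_le_three : Nat.card {v : G // orderOf v = 2 ∧ Commute v x} ≤ 3 := by
  classical
  haveI := Fact.mk h.hs
  haveI : Fact (Nat.Prime 2) := ⟨Nat.prime_two⟩
  obtain ⟨y, q, D⟩ := h.exists_data hT hP
  set N := Subgroup.normalizer ((T : Subgroup G) : Set G) with hN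
  set l : (autT T).range := ⟨autT T ⟨x, h.x_mem hT hP⟩, _, rfl⟩
  have hse := h.se_of_noCores hT
  have hao := h.invol_sylow hP.ha hP.ha1
  have hq2 : q ≠ 2 := fun e => by have := D.lt; have := h.hs.two_le; omega
  obtain ⟨k, hk⟩ := D.normal
  have hkT : ∀ n : N, (n : G) ∈ (T : Subgroup G) → autT T n = 1 := fun n hn =>
    autT_eq_one_iff.2 fun b hb => h.comm_sylow T hn hb
  -- lifts of `y` normalised by `x`
  let Lift : G → Prop := fun d => ∃ hd : d ∈ N, autT T ⟨d, hd⟩ = (y : MulAut (T : Subgroup G)) ∧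
    orderOf d = q ∧ x * d * x⁻¹ = d ^ k
  have hone : ∀ d₁ d₂, Lift d₁ → Lift d₂ → d₂ = d₁ ∨ d₂ = a * d₁ * a := by
    rintro d₁ d₂ ⟨hd₁, e₁, -, hx₁⟩ ⟨hd₂, e₂, -, hx₂⟩
    have ht : d₂ * d₁⁻¹ ∈ (T : Subgroup G) := h.mem_T_of_noCores hT
      ((autT_eq_one_iff (n := ⟨d₂, hd₂⟩ * ⟨d₁, hd₁⟩⁻¹)).1 (by rw [map_mul, map_inv, e₁, e₂, mul_inv_cancel]))
    -- conjugation by an element of `T`
    have hd₁T : ∀ e ∈ (T : Subgroup G), d₁ * e * d₁⁻¹ ∈ (T : Subgroup G) := fun e he =>
      (Subgroup.mem_normalizer_iff.1 hd₁ e).1 he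
    let f : ↥(T : Subgroup G) → ↥(T : Subgroup G) := fun e =>
      ⟨(e : G) * (d₁ * e * d₁⁻¹), mul_mem e.2 (hd₁T e e.2)⟩
    have hy1 : y ≠ 1 := fun e => D.hq.ne_one (by rw [← D.hy, e, orderOf_one])
    have hfix : ∀ {j : ℕ}, j = 1 ∨ ¬ q ∣ j → ∀ e ∈ (T : Subgroup G), Commute (d₁ ^ j) e → e = 1 := by
      intro j hj e he hc
      have hyj : y ^ j ≠ 1 := fun ej => by
        rcases hj with rfl | hj
        · exact hy1 (by rwa [pow_one] at ej)
        · exact hj (D.hy ▸ orderOf_dvd_of_pow_eq_one ej)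
      refine congrArg Subtype.val (D.fpf (y ^ j) ((Commute.refl y).pow_left j) hyj ⟨e, he⟩ (Subtype.ext ?_))
      show ((((y ^ j : (autT T).range) : MulAut (T : Subgroup G)) ⟨e, he⟩ : (T : Subgroup G)) : G) = e
      rw [SubgroupClass.coe_pow, ← e₁, ← map_pow]
      show ((⟨d₁, hd₁⟩ ^ j : N) : G) * e * ((⟨d₁, hd₁⟩ ^ j : N) : G)⁻¹ = e
      rw [SubgroupClass.coe_pow, hc.eq, mul_inv_cancel_right]
    have hf : Function.Injective f := by
      intro e e' he
      have he' : (e : G) * (d₁ * e * d₁⁻¹) = (e' : G) * (d₁ * e' * d₁⁻¹) := congrArg Subtype.val he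
      have h1 : (e : G) * e' * (d₁ * ((e : G) * e') * d₁⁻¹) = 1 := by
        rw [show d₁ * ((e : G) * e') * d₁⁻¹ = d₁ * e * d₁⁻¹ * (d₁ * e' * d₁⁻¹) by group,
          (h.comm_sylow T e.2 e'.2).eq, mul_assoc, ← mul_assoc (e : G), he', mul_assoc (e' : G) _ _,
          ← mul_assoc (e' : G) (e' : G), h.sq_sylow T _ e'.2, one_mul,
          h.sq_sylow T _ (hd₁T _ e'.2)]
      have h2 : Commute (d₁ ^ 1) ((e : G) * e') := by
        rw [pow_one]
        refine mul_inv_eq_iff_eq_mul.1 ?_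
        rw [eq_inv_of_mul_eq_one_right h1]
        exact inv_eq_of_mul_eq_one_right (h.sq_sylow T _ (mul_mem e.2 e'.2))
      have h3 := hfix (Or.inl rfl) _ (mul_mem e.2 e'.2) h2
      exact Subtype.ext (mul_right_cancel (h3.trans (h.sq_sylow T _ e'.2).symm))
    obtain ⟨e, he⟩ := (Finite.injective_iff_surjective.1 hf) ⟨_, ht⟩
    have he' : (e : G) * (d₁ * e * d₁⁻¹) = d₂ * d₁⁻¹ := congrArg Subtype.val he
    have hee : (e : G)⁻¹ = e := inv_eq_of_mul_eq_one_right (h.sq_sylow T _ e.2)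
    have hd : d₂ = e * d₁ * (e : G)⁻¹ := by
      rw [hee, ← mul_inv_cancel_right ((e : G) * d₁ * e) d₁⁻¹, inv_inv]
      rw [show (e : G) * d₁ * e * d₁⁻¹ = e * (d₁ * e * d₁⁻¹) by group, he', inv_mul_cancel_right]
    set f' := (e : G)⁻¹ * (x * e * x⁻¹) with hf'
    have hf'T : f' ∈ (T : Subgroup G) :=
      mul_mem (inv_mem e.2) ((Subgroup.mem_normalizer_iff.1 (h.x_mem hT hP) _).1 e.2)
    have hcom : Commute f' (d₁ ^ k) := by
      have h1 : x * d₂ * x⁻¹ = e * d₁ ^ k * (e : G)⁻¹ := by rw [hx₂, hd, conj_pow]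
      have h2 : x * d₂ * x⁻¹ = x * e * x⁻¹ * (d₁ ^ k) * (x * e * x⁻¹)⁻¹ := by
        rw [hd, ← hx₁]; group
      refine mul_inv_eq_iff_eq_mul.1 ?_
      rw [hf', show (e : G)⁻¹ * (x * e * x⁻¹) * d₁ ^ k * ((e : G)⁻¹ * (x * e * x⁻¹))⁻¹ =
        (e : G)⁻¹ * (x * e * x⁻¹ * d₁ ^ k * (x * e * x⁻¹)⁻¹) * e by group, ← h2, h1]
      group
    have hk' : ¬ q ∣ k := fun hd' => by
      rw [← D.hy, orderOf_dvd_iff_pow_eq_one] at hd'
      rw [hd'] at hk
      exact D.hq.ne_one (by rw [← D.hy, conj_eq_one_iff.1 hk, orderOf_one])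
    have hxe : Commute x (e : G) :=
      mul_inv_eq_iff_eq_mul.1 (inv_mul_eq_one.1 (hfix (Or.inr hk') f' hf'T hcom.symm)).symm
    rcases h.fix_x hT hP e.2 hxe with e1 | e1
    · exact Or.inl (by rw [hd, e1, inv_one, mul_one, one_mul])
    · exact Or.inr (by rw [hd, hee, e1])
  -- each further involution inverts such a lift
  have hlift : ∀ v, orderOf v = 2 → Commute v x → v ≠ a → ∃ d, Lift d ∧ v * d * v⁻¹ = d⁻¹ := by
    intro v hv hvx hva
    have hvN : v ∉ N := fun hm => by
      rcases h.fix_x hT hP (h.mem_of_normalizer hm (invol_mul_self hv)) hvx.symm with e | e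
      · exact invol_ne_one hv e
      · exact hva e
    set Dv := N ⊓ N.map (MulAut.conj v).toMonoidHom with hDv
    have hDodd : Odd (Nat.card Dv) := hse.2.2 v hvN
    have hmapv : ∀ d, d ∈ N.map (MulAut.conj v).toMonoidHom ↔ v * d * v⁻¹ ∈ N := fun d => by
      constructor
      · rintro ⟨e, he, rfl⟩
        show v * (v * e * v⁻¹) * v⁻¹ ∈ N
        rw [invol_inv hv, show v * (v * e * v) * v = (v * v) * e * (v * v) by group, invol_mul_self hv,
          one_mul, mul_one]
        exact he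
      · intro hd
        refine ⟨_, hd, ?_⟩
        show v * (v * d * v⁻¹) * v⁻¹ = d
        rw [invol_inv hv, show v * (v * d * v) * v = (v * v) * d * (v * v) by group, invol_mul_self hv,
          one_mul, mul_one]
    have hxD : x ∈ Dv := ⟨h.x_mem hT hP, (hmapv x).2 (by
      rw [hvx.eq, mul_inv_cancel_right]; exact h.x_mem hT hP)⟩
    have hDconj : ∀ d ∈ Dv, v * d * v⁻¹ ∈ Dv := fun d hd =>
      ⟨(hmapv d).1 hd.2, (hmapv _).2 (by
        rw [invol_inv hv, show v * (v * d * v) * v = (v * v) * d * (v * v) by group, invol_mul_self hv,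
          one_mul, mul_one]
        exact hd.1)⟩
    let ψ : Dv →* (autT T).range := (autT T).rangeRestrict.comp (Subgroup.inclusion inf_le_left)
    have hψ : Function.Injective ψ := by
      refine (injective_iff_map_eq_one ψ).2 fun d hd => ?_
      exact Subtype.ext (eq_one_of_two_of_odd T.2
        (h.mem_T_of_noCores hT (autT_eq_one_iff.1 (congrArg Subtype.val hd))) (odd_of_mem hDodd d.2))
    -- `Dv` is at least as large as the set of involutions of `T`
    have hne : ((1 : G) : G ⧸ N) ≠ (v : G ⧸ N) := fun e => hvN (by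
      have := QuotientGroup.eq.1 e
      rwa [inv_one, one_mul] at this)
    have hcard : Nat.card {t : G // orderOf t = 2 ∧ t ∈ N} ≤ Nat.card Dv := by
      rw [← se_card_swap hse hne]
      refine Nat.card_le_card_of_injective (fun i => ⟨(i : G) * v, ?_⟩) fun i j e =>
        Subtype.ext (mul_right_cancel (congrArg Subtype.val e :))
      obtain ⟨i, hi, hiv⟩ := i
      have hv1 : v • ((1 : G) : G ⧸ N) = (v : G ⧸ N) := by
        rw [MulAction.Quotient.smul_coe, smul_eq_mul, mul_one]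
      have h1 : i * v ∈ N := by
        have e : (i * v) • ((1 : G) : G ⧸ N) = ((1 : G) : G ⧸ N) := by
          rw [mul_smul, hv1, invol_smul_swap hi hiv]
        simpa using (fix_coset_iff _ _).1 e
      refine ⟨h1, (hmapv _).2 ?_⟩
      have h2 : v * i ∈ N := by
        have := N.inv_mem h1
        rwa [mul_inv_rev, invol_inv hv, invol_inv hi] at this
      rw [invol_inv hv, show v * (i * v) * v = v * i * (v * v) by group, invol_mul_self hv, mul_one]
      exact h2
    have hTcard : Nat.card (T : Subgroup G) ≤ Nat.card {t : G // orderOf t = 2 ∧ t ∈ N} + 1 := by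
      haveI := Fintype.ofFinite (T : Subgroup G)
      have h1 : Nat.card {b : (T : Subgroup G) // b ≠ 1} ≤ Nat.card {t : G // orderOf t = 2 ∧ t ∈ N} :=
        Nat.card_le_card_of_injective
          (fun b => ⟨((b : (T : Subgroup G)) : G),
            h.invol_sylow (b : (T : Subgroup G)).2 (fun e => b.2 (Subtype.ext e)), le_normalizer (b : (T : Subgroup G)).2⟩)
          fun b b' e => Subtype.ext (Subtype.ext (congrArg Subtype.val e :))
      rw [Nat.card_eq_fintype_card, Fintype.card_subtype_compl, Fintype.card_subtype_eq] at h1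
      rw [Nat.card_eq_fintype_card]
      omega
    -- `y` is in the image
    set Z := Subgroup.centralizer ({y} : Set (autT T).range) with hZdef
    have hyR : y ∈ ψ.range := by
      by_contra hy
      haveI := Fact.mk D.hq
      have hyZ : ∀ e ∈ (ψ.range ⊓ Z : Subgroup _), Commute e y := fun e he =>
        mem_centralizer_singleton_iff.1 he.2
      have hbot : zpowers y ⊓ ψ.range = ⊥ := by
        rcases ((zpowers y ⊓ ψ.range).subgroupOf (zpowers y)).eq_bot_or_eq_top_of_prime_card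
          (hp := ⟨by rw [Nat.card_zpowers, D.hy]; exact D.hq⟩) with e | e
        · rw [Subgroup.subgroupOf_eq_bot, disjoint_iff, inf_eq_left.2 inf_le_left] at e
          exact e
        · exact absurd ((Subgroup.subgroupOf_eq_top.1 e) (mem_zpowers y)).2 hy
      have hZc : Nat.card (zpowers y) * Nat.card (ψ.range ⊓ Z : Subgroup _) ≤ Nat.card Z := by
        rw [← Nat.card_prod]
        refine Nat.card_le_card_of_injective (fun p => ⟨(p.1 : (autT T).range) * p.2,
          mul_mem (zpowers_le.2 (mem_centralizer_singleton_iff.2 rfl) p.1.2) p.2.2.2⟩) ?_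
        rintro ⟨a₁, b₁⟩ ⟨a₂, b₂⟩ e
        have e' : (a₁ : (autT T).range) * b₁ = (a₂ : (autT T).range) * b₂ := congrArg Subtype.val e
        have h1 : (a₂ : (autT T).range)⁻¹ * a₁ = b₂ * (b₁ : (autT T).range)⁻¹ := by
          rw [eq_mul_inv_iff_mul_eq, mul_assoc, e', inv_mul_cancel_left]
        have h2 : (a₂ : (autT T).range)⁻¹ * a₁ ∈ zpowers y ⊓ ψ.range :=
          ⟨(zpowers y).mul_mem ((zpowers y).inv_mem a₂.2) a₁.2, h1 ▸ mul_mem (Subgroup.mem_inf.1 b₂.2).1
            ((ψ.range).inv_mem (Subgroup.mem_inf.1 b₁.2).1)⟩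
        rw [hbot, Subgroup.mem_bot] at h2
        have ea : a₁ = a₂ := Subtype.ext (inv_mul_eq_one.1 h2).symm
        rw [ea, mul_right_inj] at e'
        exact Prod.ext ea (Subtype.ext e')
      rw [Nat.card_zpowers, D.hy] at hZc
      have hb := D.bound ψ.range
      rw [Nat.card_congr (MonoidHom.ofInjective hψ).symm.toEquiv] at hb
      have hz : Nat.card Z + 1 = Nat.card (T : Subgroup G) := D.card_cent
      have hpos : 0 < Nat.card (ψ.range ⊓ Z : Subgroup _) := Nat.card_pos
      have : q * Nat.card (ψ.range ⊓ Z : Subgroup _) ≤ r * Nat.card (ψ.range ⊓ Z : Subgroup _) :=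
        hZc.trans (((show Nat.card Z ≤ Nat.card Dv by omega)).trans hb)
      exact absurd (Nat.le_of_mul_le_mul_right this hpos) (not_le.2 D.lt)
    obtain ⟨d, hd⟩ := hyR
    refine ⟨d, ⟨d.2.1, congrArg Subtype.val hd, ?_, ?_⟩, ?_⟩
    · rw [Subgroup.orderOf_coe, ← orderOf_injective ψ hψ d, hd, D.hy]
    · have hxd : (⟨x, hxD⟩ * d * ⟨x, hxD⟩⁻¹ : Dv) = d ^ k := hψ (by
        rw [map_mul, map_mul, map_inv, map_pow, hd,
          show ψ ⟨x, hxD⟩ = l from rfl, hk])
      simpa using congrArg Subtype.val hxd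
    · -- `v` inverts the part of `Dv` commuting with `y`
      set DZ := (Z.comap ψ).map Dv.subtype with hDZ
      have hmemZ : ∀ e : Dv, ψ e ∈ Z ↔ (e = 1 ∨ ¬ r ∣ orderOf (e : G)) := fun e => by
        rw [Subgroup.orderOf_coe, ← orderOf_injective ψ hψ e, hZdef, mem_centralizer_singleton_iff]
        constructor
        · intro he
          by_cases h1 : e = 1
          · exact Or.inl h1
          · exact Or.inr (D.free _ he fun e1 => h1 (hψ (e1.trans (map_one ψ).symm)))
        · rintro (rfl | he)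
          · rw [map_one, one_mul, mul_one]
          · by_contra hc
            exact he (D.outside _ hc)
      have hinv := CfsgLib.Recog.SymEight.inverts_of_no_fixed (R := DZ) (invol_mul_self hv)
        (fun e he => by
          obtain ⟨e', he', rfl⟩ := he
          refine ⟨⟨v * e' * v, by have := hDconj _ e'.2; rwa [invol_inv hv] at this⟩, (hmemZ _).2 ?_, rfl⟩
          rcases (hmemZ e').1 he' with rfl | h1
          · exact Or.inl (Subtype.ext (by simp [invol_mul_self hv]))
          · refine Or.inr ?_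
            show ¬ r ∣ orderOf (v * (e' : G) * v)
            rwa [show v * (e' : G) * v = v * e' * v⁻¹ by rw [invol_inv hv], orderOf_conj_eq])
        (fun e he hc => by
          obtain ⟨e', he', rfl⟩ := he
          by_contra h1
          rcases (hmemZ e').1 he' with rfl | h2
          · exact h1 rfl
          · exact h2 ((h.order_of_invol hv hc.symm (odd_of_mem hDodd e'.2) h1).symm ▸ dvd_rfl))
      have := hinv d ⟨d, mem_centralizer_singleton_iff.2 (by rw [hd]), rfl⟩
      rwa [invol_inv hv]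
  -- distinct involutions invert distinct lifts
  have huniq : ∀ u v d, orderOf u = 2 → Commute u x → orderOf v = 2 → Commute v x → orderOf d = q →
      u * d * u⁻¹ = d⁻¹ → v * d * v⁻¹ = d⁻¹ → u = v := by
    intro u v d hu hux hv hvx hd eu ev
    by_contra hne
    set w := u * v with hw
    have hwx : Commute w x := hux.mul_left hvx
    have hwd : Commute w d := by
      refine mul_inv_eq_iff_eq_mul.1 ?_
      rw [hw, show u * v * d * (u * v)⁻¹ = u * (v * d * v⁻¹) * u⁻¹ by group, ev,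
        show u * d⁻¹ * u⁻¹ = (u * d * u⁻¹)⁻¹ by group, eu, inv_inv]
    have hw1 : w ≠ 1 := fun e => hne ((eq_inv_of_mul_eq_one_left e).trans (invol_inv hv))
    obtain ⟨p, hp, hpd⟩ := Nat.exists_prime_and_dvd (fun e => hw1 (orderOf_eq_one_iff.1 e))
    obtain ⟨j, hj⟩ := hpd
    have hj0 : j ≠ 0 := fun e => (orderOf_pos w).ne' (by rw [hj, e, mul_zero])
    have ho : orderOf (w ^ j) = p := by
      rw [orderOf_pow_of_dvd hj0 (hj ▸ dvd_mul_left j p), hj, Nat.mul_div_cancel p (Nat.pos_of_ne_zero hj0)]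
    rcases h.spec.prime_of_commute_s hp ho hP.hx (hwx.pow_left j) with rfl | rfl
    · exact absurd (h.spec.prime_eq_of_commute D.hq hq2 hd ho (hwd.pow_left j).symm) D.lt.ne'
    · rcases h.spec.prime_of_commute_s D.hq hd ho (hwd.pow_left j).symm with e | e
      · exact hq2 e
      · exact D.lt.ne' e
  -- counting
  by_contra hlt
  push Not at hlt
  set I := {v : G // orderOf v = 2 ∧ Commute v x}
  haveI := Fintype.ofFinite I
  have h4 : 4 ≤ Fintype.card I := by rw [← Nat.card_eq_fintype_card]; omega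
  set a₀ : I := ⟨a, hao, hP.comm.symm⟩
  have h3 : 3 ≤ (Finset.univ.erase a₀).card := by
    rw [Finset.card_erase_of_mem (Finset.mem_univ _), Finset.card_univ]; omega
  have hch : ∀ i : I, i ≠ a₀ → ∃ d, Lift d ∧ (i : G) * d * (i : G)⁻¹ = d⁻¹ := fun i hi =>
    hlift i i.2.1 i.2.2 fun e => hi (Subtype.ext e)
  choose! d hd hdinv using hch
  obtain ⟨i₁, hi₁⟩ : ∃ i, i ∈ Finset.univ.erase a₀ := Finset.card_pos.1 (by omega)
  have himg : (Finset.univ.erase a₀).image d ⊆ {d i₁, a * d i₁ * a} := by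
    intro z hz
    obtain ⟨i, hi, rfl⟩ := Finset.mem_image.1 hz
    rw [Finset.mem_insert, Finset.mem_singleton]
    exact hone _ _ (hd i₁ (Finset.ne_of_mem_erase hi₁)) (hd i (Finset.ne_of_mem_erase hi))
  have hinj : Set.InjOn d (Finset.univ.erase a₀ : Finset I) := by
    intro i hi j hj e
    rw [Finset.mem_coe] at hi hj
    obtain ⟨_, -, hdo, -⟩ := hd i (Finset.ne_of_mem_erase hi)
    exact Subtype.ext (huniq _ _ _ i.2.1 i.2.2 j.2.1 j.2.2 hdo (hdinv i (Finset.ne_of_mem_erase hi))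
      (e ▸ hdinv j (Finset.ne_of_mem_erase hj)))
  have := (Finset.card_le_card himg).trans Finset.card_le_two
  rw [Finset.card_image_of_injOn hinj] at this
  omega

end Engine

end CfsgLib.Recog.ThreeOrders
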