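import Cfsg.Agent.Lib.Recog.ThreeOrders.CaseII.Engine.Strong
import Cfsg.Agent.Lib.Recog.GenDihedral.Main
import Cfsg.Agent.Lib.Recog.SymEight.Tools

/-!
# A self-centralising four-group with a non-trivial core: generalized dihedral centralisers
-/

set_option autoImplicit false
set_option linter.unusedSectionVars false
set_option linter.style.haveILetI false

namespace CfsgLib.Recog.ThreeOrders

open Subgroup CfsgLib.Invol CfsgLib.EqOrder CfsgLib.FiveOrbit
open CfsgLib.InvChar.OneComposite hiding Spec

universe u

variable {G : Type u} [Group G] [Finite G] {r : ℕ}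

namespace Engine

variable (h : Engine G r)
include h

theorem psl_of_klein {T : Sylow 2 G} (h4 : Nat.card (T : Subgroup G) = 4)
    (hCT : ∀ z : G, Odd (orderOf z) → (∀ b ∈ (T : Subgroup G), Commute z b) → z = 1) :
    ∃ (F : Type) (_ : Field F) (_ : Fintype F), Odd (Fintype.card F) ∧
      Nonempty (G ≃* Matrix.ProjectiveSpecialLinearGroup (Fin 2) F) := by
  classical
  haveI := h.simple
  haveI : Fact (Nat.Prime 2) := ⟨Nat.prime_two⟩
  obtain ⟨a, ha, b, hb, ha1, hb1, hab⟩ := h.exists_two T
  have hao := h.invol_sylow ha ha1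
  have hbo := h.invol_sylow hb hb1
  set a' : (T : Subgroup G) := ⟨a, ha⟩
  set b' : (T : Subgroup G) := ⟨b, hb⟩
  have hab1 : a * b ≠ 1 := fun e => hab ((eq_inv_of_mul_eq_one_left e).trans (invol_inv hbo))
  have hall : ∀ u : (T : Subgroup G), u = 1 ∨ u = a' ∨ u = b' ∨ u = a' * b' := by
    let f : Fin 4 → (T : Subgroup G) := ![1, a', b', a' * b']
    have h1 : a' ≠ 1 := fun e => ha1 (congrArg Subtype.val e)
    have h2 : b' ≠ 1 := fun e => hb1 (congrArg Subtype.val e)
    have h3 : a' * b' ≠ 1 := fun e => hab1 (congrArg Subtype.val e)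
    have h12 : a' ≠ b' := fun e => hab (congrArg Subtype.val e)
    have hf : Function.Injective f := by
      intro i j e
      fin_cases i <;> fin_cases j <;> first
        | rfl
        | exact absurd e (Ne.symm h1) | exact absurd e (Ne.symm h2) | exact absurd e (Ne.symm h3)
        | exact absurd e h1 | exact absurd e h2 | exact absurd e h3
        | exact absurd e h12 | exact absurd e (Ne.symm h12)
        | exact absurd (mul_eq_left.1 e) h2
        | exact absurd (mul_eq_left.1 e.symm) h2
        | exact absurd (mul_eq_right.1 e) h1 | exact absurd (mul_eq_right.1 e.symm) h1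
    intro u
    obtain ⟨i, rfl⟩ := ((Nat.bijective_iff_injective_and_card f).2
      ⟨hf, by rw [Nat.card_fin, h4]⟩).2 u
    fin_cases i
    · exact Or.inl rfl
    · exact Or.inr (Or.inl rfl)
    · exact Or.inr (Or.inr (Or.inl rfl))
    · exact Or.inr (Or.inr (Or.inr rfl))
  let D : DihData (T : Subgroup G) :=
    { h := 1
      r := a'
      s := b'
      h_pos := one_pos
      h_pow := ⟨0, rfl⟩
      orderOf_r := by rw [← Subgroup.orderOf_coe]; exact hao
      orderOf_s := by rw [← Subgroup.orderOf_coe]; exact hbo
      conj_r := Subtype.ext (by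
        show b * a * b⁻¹ = a⁻¹
        rw [(h.comm_sylow T hb ha).eq, mul_inv_cancel_right, invol_inv hao])
      s_notMem := by
        rintro ⟨i, hi⟩
        have hi' : a ^ i = b := congrArg Subtype.val hi
        rcases Int.even_or_odd i with ⟨j, rfl⟩ | ⟨j, rfl⟩
        · rw [zpow_add, ← (Commute.refl a).mul_zpow, invol_mul_self hao, one_zpow] at hi'
          exact hb1 hi'.symm
        · rw [zpow_add_one, zpow_mul, zpow_two, invol_mul_self hao, one_zpow, one_mul] at hi'
          exact hab hi'
      cases := fun u => by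
        rcases hall u with rfl | rfl | rfl | rfl
        · exact Or.inl ⟨0, (zpow_zero _).symm⟩
        · exact Or.inl ⟨1, (zpow_one _).symm⟩
        · exact Or.inr ⟨0, by rw [zpow_zero, one_mul]⟩
        · exact Or.inr ⟨1, by rw [zpow_one]⟩
      card_eq := by rw [h4] }
  have hdz : CfsgLib.Invol.dz T D = a := by
    show ((D.r ^ ((1 : ℕ) : ℤ) : (T : Subgroup G)) : G) = a
    rw [Nat.cast_one, zpow_one]
  refine CfsgLib.Recog.GenDih.psl_of_gen (S := T) (D := D) (K := core a) ⟨odd_core a,
    fun k hk => (core_commute hk).symm, fun k hk => ?_, fun x hx => ?_⟩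
  · -- `b` inverts the core
    show b * k * b⁻¹ = k⁻¹
    rw [invol_inv hbo]
    refine CfsgLib.Recog.SymEight.inverts_of_no_fixed (R := core a) (invol_mul_self hbo) (fun c hc => ?_)
      (fun c hc hbc => ?_) k hk
    · have := core_normal (h.comm_sylow T hb ha) hc
      rwa [invol_inv hbo] at this
    · refine hCT c (odd_of_mem (odd_core a) hc) fun u hu => ?_
      rcases hall ⟨u, hu⟩ with e | e | e | e
      all_goals rw [show u = _ from congrArg Subtype.val e]
      · exact Commute.one_right c
      · exact core_commute hc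
      · exact hbc.symm
      · exact (core_commute hc).mul_right hbc.symm
  · rw [hdz] at hx
    obtain ⟨w, hw, n, hn, hna, rfl⟩ :=
      h.decomp_centralizer ha ha1 (Subgroup.mem_centralizer_singleton_iff.1 hx : Commute x a)
    refine ⟨w, hw, n, ?_, rfl⟩
    set nn : normalizer ((T : Subgroup G) : Set G) := ⟨n, hn⟩
    set l : (autT T).range := ⟨autT T nn, nn, rfl⟩
    have hsq : l * l = 1 := by
      refine Subtype.ext (MulEquiv.ext fun u => ?_)
      have hla : (l : MulAut (T : Subgroup G)) a' = a' :=
        Subtype.ext (show n * a * n⁻¹ = a by rw [hna.eq, mul_inv_cancel_right])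
      have hlb : (l : MulAut (T : Subgroup G)) b' = b' ∨ (l : MulAut (T : Subgroup G)) b' = a' * b' := by
        rcases hall ((l : MulAut (T : Subgroup G)) b') with e | e | e | e
        · rw [map_eq_one_iff _ (MulEquiv.injective _)] at e
          exact absurd (congrArg Subtype.val e) hb1
        · exact absurd (congrArg Subtype.val ((MulEquiv.injective _) (e.trans hla.symm))) (Ne.symm hab)
        · exact Or.inl e
        · exact Or.inr e
      have ha2 : a' * a' = 1 := Subtype.ext (invol_mul_self hao)
      show (l : MulAut (T : Subgroup G)) ((l : MulAut (T : Subgroup G)) u) = u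
      have hb2 : (l : MulAut (T : Subgroup G)) ((l : MulAut (T : Subgroup G)) b') = b' := by
        rcases hlb with e | e
        · rw [e, e]
        · rw [e, map_mul, hla, e, ← mul_assoc, ha2, one_mul]
      rcases hall u with rfl | rfl | rfl | rfl
      · simp
      · rw [hla, hla]
      · exact hb2
      · rw [map_mul, map_mul, hla, hla, hb2]
    have hl1 : l = 1 := orderOf_eq_one_iff.1 (Nat.eq_one_of_dvd_coprimes
      (Nat.coprime_two_left.2 ((h.odd_range T).of_dvd_nat (orderOf_dvd_natCard l)))
      (orderOf_dvd_of_pow_eq_one ((pow_two l).trans hsq)) dvd_rfl)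
    have hc : ∀ c ∈ (T : Subgroup G), Commute n c := (autT_eq_one_iff (n := nn)).1 (congrArg Subtype.val hl1)
    obtain ⟨c, hc', ho⟩ := h.odd_part_centralizer hc
    have := hCT (n * c) ho fun d hd => (hc d hd).mul_left (h.comm_sylow T hc' hd)
    rw [eq_inv_of_mul_eq_one_left this]
    exact inv_mem hc'

end Engine

end CfsgLib.Recog.ThreeOrders
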