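import Cfsg.Agent.Lib.Recog.ThreeOrders.CaseII.Engine.Core
import Cfsg.Agent.Lib.InvChar.OneComposite.Local

/-!
# Maximal Sylow-2-invariant `r`-subgroups

Normalisers of elementary abelian `r`-subgroups normalised by a Sylow 2-subgroup `T` are solvable,
whence two maximal `T`-invariant `r`-subgroups which meet nontrivially are equal.
-/

set_option autoImplicit false
set_option linter.unusedSectionVars false
set_option linter.style.haveILetI false

namespace CfsgLib.Recog.ThreeOrders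

open Subgroup CfsgLib.Invol CfsgLib.EqOrder CfsgLib.FiveOrbit
open CfsgLib.InvChar.OneComposite hiding Spec

variable {G : Type*} [Group G] [Finite G] {r : ℕ}

namespace Engine

variable (h : Engine G r)
include h

theorem isSolvable_normalizer {V : Subgroup G} (hV : IsPGroup r V) (hne : V ≠ ⊥) :
    Group.IsSolvable (normalizer (V : Set G)) :=
  h.spec.solvable_of_odd_normal le_normalizer le_rfl (h.odd_of_isPGroup hV) hne

/-- In a solvable `K ≥ T` two `T`-invariant `r`-subgroups lie in a common one. -/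
theorem exists_common {T : Sylow 2 G} {K Y₁ Y₂ : Subgroup G} [Group.IsSolvable K]
    (hTK : (T : Subgroup G) ≤ K) (h₁ : InvR T r Y₁) (h₂ : InvR T r Y₂) (hK₁ : Y₁ ≤ K) (hK₂ : Y₂ ≤ K) :
    ∃ P, InvR T r P ∧ Y₁ ≤ P ∧ Y₂ ≤ P := by
  haveI := Fact.mk h.hs
  haveI : Fact (Nat.Prime 2) := ⟨Nat.prime_two⟩
  set O := oddSub K with hO
  obtain ⟨t, ht, ht1⟩ := h.exists_ne_one T
  have hA : (T : Subgroup G) ≤ normalizer (O : Set G) := hTK.trans (le_normalizer_oddSub K)
  have hcop : (Nat.card (T : Subgroup G)).Coprime (Nat.card O) := by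
    rw [T.card_eq_multiplicity]
    exact Nat.Coprime.pow_left _ (Nat.coprime_two_left.2 (odd_oddSub K))
  haveI hTs : Group.IsSolvable (T : Subgroup G) := by
    haveI := T.2.isNilpotent
    infer_instance
  have hin : ∀ {Y}, InvR T r Y → Y ≤ K → Y ≤ O := fun hY hYK =>
    h.le_oddSub hTK (h.odd_of_isPGroup hY.1) hYK fun a ha y hy => hY.conj_mem ha hy
  -- `C_O(T)` is an `r`-group, so lies in every invariant Sylow `r`-subgroup
  have hC : IsPGroup r (O ⊓ centralizer ((T : Subgroup G) : Set G) : Subgroup G) :=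
    h.isPGroup_s_of_order fun x hx h1 => h.order_of_invol (h.invol_sylow ht ht1)
      (mem_centralizer_commute.1 hx.2 t ht).symm (odd_of_mem (odd_oddSub K) hx.1) h1
  obtain ⟨P₀, hP₀, hP₀n⟩ := CfsgLib.Coprime.exists_invariant_sylow_ge hA hcop (Or.inl hTs) hC inf_le_left
    (fun a ha => normalizer_of_conj_mem fun x hx => by
      rw [(mem_centralizer_commute.1 hx.2 a ha).eq, mul_inv_cancel_right]; exact hx)
  have hall : ∀ {Y}, InvR T r Y → Y ≤ K → Y ≤ (P₀ : Subgroup O).map O.subtype := by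
    intro Y hY hYK
    obtain ⟨P, hP, hPn⟩ := CfsgLib.Coprime.exists_invariant_sylow_ge hA hcop (Or.inl hTs) hY.1 (hin hY hYK) hY.2
    obtain ⟨c, hc, hce⟩ := CfsgLib.Coprime.exists_conj_invariant_sylow hA hcop (Or.inl hTs) P₀ P hP₀n hPn
    refine hP.trans ?_
    rw [← hce]
    rintro _ ⟨x, hx, rfl⟩
    exact mul_mem (mul_mem (hP₀ hc) hx) (inv_mem (hP₀ hc))
  exact ⟨(P₀ : Subgroup O).map O.subtype, ⟨P₀.2.map _, hP₀n⟩, hall h₁ hK₁, hall h₂ hK₂⟩

/-- Maximal invariant `r`-subgroups which meet are equal. -/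
theorem max_eq {T : Sylow 2 G} {R₁ R₂ : Subgroup G} (h₁ : InvR T r R₁) (h₂ : InvR T r R₂)
    (hm₁ : ∀ M, InvR T r M → R₁ ≤ M → M = R₁) (hm₂ : ∀ M, InvR T r M → R₂ ≤ M → M = R₂)
    (hne : R₁ ⊓ R₂ ≠ ⊥) : R₁ = R₂ := by
  haveI := Fact.mk h.hs
  induction hn : Nat.card G - Nat.card (R₁ ⊓ R₂ : Subgroup G) using Nat.strong_induction_on
    generalizing R₁ R₂ with
  | _ n ih =>
    subst hn
    by_contra hd
    set D := R₁ ⊓ R₂ with hD
    have hDp : IsPGroup r D := h₁.1.to_le inf_le_left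
    have hDT : (T : Subgroup G) ≤ normalizer (D : Set G) := fun a ha =>
      normalizer_of_conj_mem fun x hx => ⟨h₁.conj_mem ha hx.1, h₂.conj_mem ha hx.2⟩
    haveI : Nontrivial D := (Subgroup.nontrivial_iff_ne_bot D).2 hne
    haveI := hDp.center_nontrivial
    set V := (Subgroup.center D).map D.subtype with hV
    have hVD : V ≤ D := map_subtype_le _
    have hND : normalizer (D : Set G) ≤ normalizer (V : Set G) := by
      intro g hg
      refine normalizer_of_conj_mem ?_
      rintro _ ⟨z, hz, rfl⟩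
      exact ⟨⟨g * z * g⁻¹, (Subgroup.mem_normalizer_iff.1 hg _).1 z.2⟩, Subgroup.mem_center_iff.2 fun d => by
        have hd' : g⁻¹ * d * g ∈ D := by
          have := (Subgroup.mem_normalizer_iff.1 (inv_mem hg) _).1 d.2
          simpa using this
        have hz' : g⁻¹ * d * g * z = z * (g⁻¹ * d * g) :=
          congrArg Subtype.val (Subgroup.mem_center_iff.1 hz ⟨_, hd'⟩)
        refine Subtype.ext ?_
        calc (d : G) * (g * z * g⁻¹) = g * (g⁻¹ * d * g * z) * g⁻¹ := by group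
          _ = g * (z * (g⁻¹ * d * g)) * g⁻¹ := by rw [hz']
          _ = _ := by simp [mul_assoc], rfl⟩
    have hVi : InvR T r V := ⟨hDp.to_le hVD, hDT.trans hND⟩
    have hVne : V ≠ ⊥ := fun e => by
      rw [hV, Subgroup.map_eq_bot_iff_of_injective _ D.subtype_injective] at e
      exact (Subgroup.nontrivial_iff_ne_bot _).1 inferInstance e
    have hVc : ∀ a ∈ V, ∀ b ∈ V, a * b = b * a := by
      rintro _ ⟨a, ha, rfl⟩ _ ⟨b, -, rfl⟩
      exact (congrArg Subtype.val (Subgroup.mem_center_iff.1 ha b)).symm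
    haveI := h.isSolvable_normalizer hVi.1 hVne
    -- normalisers grow
    have hY : ∀ {R}, InvR T r R → D < R →
        InvR T r (R ⊓ normalizer (D : Set G)) ∧ D < R ⊓ normalizer (D : Set G) := by
      intro R hR hlt
      refine ⟨⟨hR.1.to_le inf_le_left, fun a ha => normalizer_of_conj_mem fun x hx =>
        ⟨hR.conj_mem ha hx.1, (normalizer (D : Set G)).mul_mem ((normalizer (D : Set G)).mul_mem (hDT ha) hx.2)
          ((normalizer (D : Set G)).inv_mem (hDT ha))⟩⟩, ?_⟩
      refine lt_of_le_of_ne (le_inf hlt.le le_normalizer) fun e => ?_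
      haveI := hR.1.isNilpotent
      have hlt' : D.subgroupOf R < ⊤ := lt_top_iff_ne_top.2 fun e' =>
        absurd (Subgroup.subgroupOf_eq_top.1 e') hlt.not_ge
      obtain ⟨x, hx, hxD⟩ := SetLike.exists_of_lt
        (Group.normalizerCondition_of_isNilpotent _ hlt')
      refine hxD (Subgroup.mem_subgroupOf.2 (e.ge ⟨x.2, normalizer_of_conj_mem fun d hd => ?_⟩))
      have := (Subgroup.mem_normalizer_iff.1 hx ⟨d, hlt.le hd⟩).1 (Subgroup.mem_subgroupOf.2 hd)
      exact Subgroup.mem_subgroupOf.1 this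
    have hlt₁ : D < R₁ := lt_of_le_of_ne inf_le_left fun e =>
      hd ((hm₁ R₂ h₂ (e ▸ inf_le_right)).symm)
    have hlt₂ : D < R₂ := lt_of_le_of_ne inf_le_right fun e =>
      hd (hm₂ R₁ h₁ (e ▸ inf_le_left))
    obtain ⟨hY₁, hY₁'⟩ := hY h₁ hlt₁
    obtain ⟨hY₂, hY₂'⟩ := hY h₂ hlt₂
    obtain ⟨P, hP, hPY₁, hPY₂⟩ := h.exists_common (K := normalizer (V : Set G)) hVi.2 hY₁ hY₂
      (inf_le_right.trans hND) (inf_le_right.trans hND)
    obtain ⟨R₃, h₃, hPR, hm₃⟩ := exists_max_invR T hP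
    have key : ∀ {R}, InvR T r R → (∀ M, InvR T r M → R ≤ M → M = R) →
        ∀ Y, Y ≤ R → Y ≤ R₃ → D < Y → R₃ = R := by
      intro R hR hmR Y hYR hY3 hlt
      have hlt' : D < R₃ ⊓ R := lt_of_lt_of_le hlt (le_inf hY3 hYR)
      refine ih _ ?_ h₃ hR (fun M hM hle => hm₃ M hM hle) hmR ?_ rfl
      · have h1 : Nat.card D < Nat.card (R₃ ⊓ R : Subgroup G) := by
          by_contra hge
          exact hlt'.ne (Subgroup.eq_of_le_of_card_ge hlt'.le (not_lt.1 hge))
        have h2 := (R₃ ⊓ R).card_le_card_group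
        omega
      · exact fun e => hne (le_bot_iff.1 (e ▸ hlt'.le))
    exact hd ((key h₁ hm₁ _ inf_le_left (hPY₁.trans hPR) hY₁').symm.trans
      (key h₂ hm₂ _ inf_le_left (hPY₂.trans hPR) hY₂'))

end Engine

end CfsgLib.Recog.ThreeOrders
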