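import Cfsg.Agent.Lib.Recog.ThreeOrders.CaseII.Engine.CaseB
import Mathlib.GroupTheory.Transfer
import Mathlib.GroupTheory.IndexNormal
import Mathlib.GroupTheory.PGroup

/-!
# Trivial cores are impossible

At most three involutions centralise `x`; so `C(x)` has order `2 r` or `18`, and a transfer shows
that the group is not simple.
-/

set_option autoImplicit false
set_option linter.unusedSectionVars false
set_option linter.style.haveILetI false

namespace CfsgLib.Recog.ThreeOrders

open Subgroup CfsgLib.Invol CfsgLib.EqOrder CfsgLib.FiveOrbit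
open CfsgLib.InvChar.OneComposite hiding Spec

universe u

variable {G : Type u} [Group G] [Finite G] {r : ℕ}

/-- Two elements of a group of exponent three: one commutes with its conjugate. -/
theorem commute_conj_of_cube {M : Type*} [Group M] {p x : M} (hp : p ^ 3 = 1)
    (h1 : (p * x) ^ 3 = 1) (h2 : (p⁻¹ * x) ^ 3 = 1) : Commute (p * x * p⁻¹) x := by
  have e1 : p * x * p = x⁻¹ * p⁻¹ * x⁻¹ := by
    have : p * x * p * (x * p * x) = 1 := by
      rw [← h1, pow_succ, pow_succ, pow_one]; group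
    rw [eq_inv_of_mul_eq_one_left this]; group
  have e2 : p⁻¹ * x * p⁻¹ = x⁻¹ * p * x⁻¹ := by
    have : p⁻¹ * x * p⁻¹ * (x * p⁻¹ * x) = 1 := by
      rw [← h2, pow_succ, pow_succ, pow_one]; group
    rw [eq_inv_of_mul_eq_one_left this]; group
  have hpp : p * p = p⁻¹ := eq_inv_of_mul_eq_one_left (by rw [← hp, pow_succ, pow_two])
  have hp2 : p⁻¹ * p⁻¹ = p := by rw [← mul_inv_rev, hpp, inv_inv]
  calc p * x * p⁻¹ * x = p⁻¹ * (p⁻¹ * x * p⁻¹) * x := by
        rw [← mul_assoc, ← mul_assoc, hp2]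
    _ = p⁻¹ * x⁻¹ * p := by rw [e2]; group
    _ = x * (x⁻¹ * p⁻¹ * x⁻¹) * p := by group
    _ = x * (p * x * p) * p := by rw [e1]
    _ = x * (p * x * p⁻¹) := by rw [← hpp]; group

namespace Engine

variable (h : Engine G r)
include h

variable {T : Sylow 2 G} (hT : NoCores T) {a x : G} (hP : FixPair r T a x)
include hT hP

theorem centralizer_cases_three :
    (∀ c, Commute c x → c ∈ zpowers (x * a)) ∨
      (r = 3 ∧ Nat.card (Subgroup.centralizer ({x} : Set G)) = 18 ∧
        (∀ v, orderOf v = 2 → Commute v x → ∃ c, Commute c x ∧ c * a * c⁻¹ = v) ∧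
        ∃ b, orderOf b = 2 ∧ Commute b x ∧ b ≠ a) := by
  classical
  haveI := Fact.mk h.hs
  haveI : Fact (Nat.Prime 2) := ⟨Nat.prime_two⟩
  have hao := h.invol_sylow hP.ha hP.ha1
  set C := Subgroup.centralizer ({x} : Set G)
  set K := zpowers (x * a)
  have hKC : K ≤ C :=
    zpowers_le.2 (mem_centralizer_singleton_iff.2 ((Commute.refl x).mul_left hP.comm.symm).eq)
  have hK : Nat.card K = 2 * r := by
    rw [Nat.card_zpowers, hP.comm.orderOf_mul_eq_mul_orderOf_of_coprime
      (by rw [hP.hx, hao]; exact (Nat.coprime_primes h.hs Nat.prime_two).2 h.s_ne_two), hP.hx, hao, mul_comm]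
  -- the orbit of `a`
  let J := {v : G // orderOf v = 2 ∧ Commute v x}
  let f : C ⧸ K.subgroupOf C → J := fun q => ⟨(q.out : G) * a * (q.out : G)⁻¹,
    by rw [orderOf_conj_eq]; exact hao, by
      have hc : Commute (q.out : G) x := mem_centralizer_singleton_iff.1 q.out.2
      exact (hc.mul_left hP.comm.symm).mul_left hc.inv_left⟩
  have hf : Function.Injective f := by
    intro q q' e
    rw [← QuotientGroup.out_eq' q, ← QuotientGroup.out_eq' q', QuotientGroup.eq, Subgroup.mem_subgroupOf]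
    refine h.mem_zpowers_of_commute hT hP ?_ (mem_centralizer_singleton_iff.1 (C.mul_mem (C.inv_mem q.out.2) q'.out.2))
    have e' : (q.out : G) * a * (q.out : G)⁻¹ = (q'.out : G) * a * (q'.out : G)⁻¹ := congrArg Subtype.val e
    refine mul_inv_eq_iff_eq_mul.1 ?_
    simp only [Subgroup.coe_mul, Subgroup.coe_inv]
    calc (q.out : G)⁻¹ * q'.out * a * ((q.out : G)⁻¹ * q'.out)⁻¹
        = (q.out : G)⁻¹ * ((q'.out : G) * a * (q'.out : G)⁻¹) * q.out := by group
      _ = a := by rw [← e']; group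
  have hJ : Nat.card J ≤ 3 := h.invol_le_three hT hP
  have hm : Nat.card (C ⧸ K.subgroupOf C) ≤ 3 := (Nat.card_le_card_of_injective f hf).trans hJ
  have hC : Nat.card C = (K.subgroupOf C).index * (2 * r) := by
    rw [← hK, ← Nat.card_congr (subgroupOfEquivOfLe hKC).toEquiv, mul_comm, Subgroup.card_mul_index]
  rw [← Subgroup.index_eq_card] at hm
  have hpos : 0 < (K.subgroupOf C).index := Nat.pos_of_ne_zero Subgroup.index_ne_zero_of_finite
  obtain hm1 | hm2 | hm3 : (K.subgroupOf C).index = 1 ∨ (K.subgroupOf C).index = 2 ∨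
      (K.subgroupOf C).index = 3 := by omega
  · left
    intro c hc
    have : K.subgroupOf C = ⊤ := Subgroup.index_eq_one.1 hm1
    exact Subgroup.subgroupOf_eq_top.1 this (mem_centralizer_singleton_iff.2 hc.eq)
  · exfalso
    have h4 : 2 ^ 2 ∣ Nat.card C := ⟨r, by rw [hC, hm2]; ring⟩
    set aC : C := ⟨a, mem_centralizer_singleton_iff.2 hP.comm.eq.symm⟩
    obtain ⟨P, hP4, haP⟩ := Sylow.exists_subgroup_card_pow_prime_le 2 (n := 1) (m := 2) h4 (zpowers aC)
      (by rw [Nat.card_zpowers, Subgroup.orderOf_mk, hao, pow_one]) (by norm_num)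
    obtain ⟨S, hS⟩ := ((IsPGroup.of_card (p := 2) (n := 2) hP4).map C.subtype).exists_le_sylow
    have hPK : P.map C.subtype ≤ K := by
      rintro _ ⟨c, hc, rfl⟩
      exact h.mem_zpowers_of_commute hT hP
        (h.comm_sylow S (hS (mem_map_of_mem _ hc)) (hS ⟨aC, haP (mem_zpowers _), rfl⟩))
        (mem_centralizer_singleton_iff.1 c.2)
    have hd := Subgroup.card_dvd_of_le hPK
    rw [card_map_of_injective C.subtype_injective, hP4, hK] at hd
    have : 2 ∣ r := Nat.dvd_of_mul_dvd_mul_left two_pos (by simpa [pow_two] using hd)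
    exact h.s_ne_two ((Nat.prime_dvd_prime_iff_eq Nat.prime_two h.hs).1 this).symm
  · right
    have hr : r = 3 := by
      by_contra hr
      obtain ⟨c, hc⟩ := exists_prime_orderOf_dvd_card' (G := C) (hp := ⟨Nat.prime_three⟩) 3
        (by rw [hC, hm3]; exact dvd_mul_right 3 _)
      rcases h.spec.prime_of_commute_s Nat.prime_three (x := (c : G)) (by rw [Subgroup.orderOf_coe, hc]) hP.hx
        (mem_centralizer_singleton_iff.1 c.2) with e | e
      · omega
      · exact hr e.symm
    have hJ3 : Nat.card J = 3 := by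
      have := Nat.card_le_card_of_injective f hf
      rw [← Subgroup.index_eq_card, hm3] at this
      omega
    have hsurj : Function.Surjective f :=
      ((Nat.bijective_iff_injective_and_card f).2 ⟨hf, by rw [← Subgroup.index_eq_card, hm3, hJ3]⟩).2
    refine ⟨hr, by rw [hC, hm3, hr], fun v hv hvx => ?_, ?_⟩
    · obtain ⟨q, hq⟩ := hsurj ⟨v, hv, hvx⟩
      exact ⟨q.out, mem_centralizer_singleton_iff.1 q.out.2, congrArg Subtype.val hq⟩
    · by_contra hne
      push Not at hne
      haveI : Subsingleton J := ⟨fun i j =>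
        Subtype.ext ((hne i i.2.1 i.2.2).trans (hne j j.2.1 j.2.2).symm)⟩
      have : Nat.card J ≤ 1 := Finite.card_le_one_iff_subsingleton.2 inferInstance
      omega

theorem conj_not_inv (hconj : ∀ v, orderOf v = 2 → Commute v x → ∃ c, Commute c x ∧ c * a * c⁻¹ = v)
    {n : G} (hn : n * x * n⁻¹ ∈ zpowers x) : Commute n x := by
  have hao := h.invol_sylow hP.ha hP.ha1
  have hx1 : x ≠ 1 := fun e => h.hs.ne_one (by rw [← hP.hx, e, orderOf_one])
  obtain ⟨i, hi⟩ := hn
  have hi : x ^ i = n * x * n⁻¹ := hi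
  have hv : Commute (n * a * n⁻¹) x := by
    have h1 : Commute (n * a * n⁻¹) (x ^ i) := hi ▸ (Commute.conj_iff n).2 hP.comm.symm
    haveI := Fact.mk h.hs
    have hgen : zpowers (x ^ i) = zpowers x := Subgroup.eq_of_le_of_card_ge (zpowers_le.2 (zpow_mem (mem_zpowers x) i))
      (by rw [Nat.card_zpowers, Nat.card_zpowers, hi, orderOf_conj_eq])
    obtain ⟨j, hj⟩ := hgen.ge (mem_zpowers x)
    exact hj ▸ h1.zpow_right j
  obtain ⟨c, hc, hca⟩ := hconj _ (by rw [orderOf_conj_eq]; exact hao) hv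
  have h1 : Commute (c⁻¹ * n) a := by
    refine mul_inv_eq_iff_eq_mul.1 ?_
    rw [show c⁻¹ * n * a * (c⁻¹ * n)⁻¹ = c⁻¹ * (n * a * n⁻¹) * c by group, ← hca]
    group
  have h2 : c⁻¹ * n * x * (c⁻¹ * n)⁻¹ ∈ zpowers x := by
    rw [show c⁻¹ * n * x * (c⁻¹ * n)⁻¹ = c⁻¹ * (n * x * n⁻¹) * c by group, ← hi]
    rw [((hc.zpow_right i).inv_left).eq, inv_mul_cancel_right]
    exact zpow_mem (mem_zpowers x) i
  have := h.commute_of_normalize hT hP h1 h2
  rw [show n = c * (c⁻¹ * n) by group]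
  exact hc.mul_left this

theorem false_of_two (hC : ∀ c, Commute c x → c ∈ zpowers (x * a)) : False := by
  classical
  haveI := h.simple
  haveI := Fact.mk h.hs
  have hao := h.invol_sylow hP.ha hP.ha1
  have hxa : orderOf (x * a) = 2 * r := by
    rw [hP.comm.orderOf_mul_eq_mul_orderOf_of_coprime
      (by rw [hP.hx, hao]; exact (Nat.coprime_primes h.hs Nat.prime_two).2 h.s_ne_two), hP.hx, hao, mul_comm]
  have hodd : ∀ c ∈ zpowers (x * a), Odd (orderOf c) → c ∈ zpowers x := by
    rintro c ⟨i, rfl⟩ ho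
    have e : (x * a) ^ i = x ^ i * a ^ i := hP.comm.mul_zpow i
    show (x * a) ^ i ∈ zpowers x
    have hai : a ^ i = 1 := by
      rcases Int.even_or_odd i with ⟨j, rfl⟩ | ⟨j, rfl⟩
      · rw [zpow_add, ← (Commute.refl a).mul_zpow, invol_mul_self hao, one_zpow]
      · exfalso
        have h2 : a ^ (2 * j + 1) = a := by
          rw [zpow_add_one, zpow_mul, zpow_two, invol_mul_self hao, one_zpow, one_mul]
        have h3 : ((x * a) ^ (2 * j + 1)) ^ r = a := by
          rw [e, h2, ((hP.comm.zpow_left _).mul_pow r), ← zpow_natCast (x ^ _), ← zpow_mul, mul_comm,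
            zpow_mul, zpow_natCast, ← hP.hx, pow_orderOf_eq_one, one_zpow, one_mul, hP.hx]
          obtain ⟨k, hk⟩ := h.s_odd
          rw [hk, pow_succ, pow_mul, pow_two, invol_mul_self hao, one_pow, one_mul]
        have h4 := orderOf_pow_dvd (x := (x * a) ^ (2 * j + 1)) r
        rw [h3, hao] at h4
        exact Nat.not_even_iff_odd.2 ho (even_iff_two_dvd.2 h4)
    rw [e, hai, mul_one]
    exact zpow_mem (mem_zpowers x) i
  have hxp : IsPGroup r (zpowers x) := IsPGroup.of_card (n := 1) (by rw [Nat.card_zpowers, hP.hx, pow_one])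
  obtain ⟨P, hxP⟩ := hxp.exists_le_sylow
  have hxP' : x ∈ (P : Subgroup G) := hxP (mem_zpowers x)
  have hsmall : ∀ c ∈ (P : Subgroup G), Commute c x → c ∈ zpowers x := fun c hc hcx =>
    hodd c (hC c hcx) (odd_of_mem (h.odd_of_isPGroup P.2) hc)
  have hPx : (P : Subgroup G) = zpowers x := by
    refine le_antisymm (fun c hc => hsmall c hc ?_) hxP
    haveI : Nontrivial (P : Subgroup G) :=
      ⟨⟨⟨x, hxP'⟩, 1, fun e => h.hs.ne_one (by rw [← hP.hx, show x = 1 from congrArg Subtype.val e, orderOf_one])⟩⟩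
    haveI := P.2.center_nontrivial
    obtain ⟨⟨⟨z, hzP⟩, hz⟩, hz1⟩ := exists_ne (1 : Subgroup.center (P : Subgroup G))
    have hzc : ∀ d ∈ (P : Subgroup G), Commute d z := fun d hd =>
      congrArg Subtype.val (Subgroup.mem_center_iff.1 hz ⟨d, hd⟩)
    have hzx := hsmall z hzP (hzc x hxP').symm
    have hz1' : z ≠ 1 := fun e => hz1 (Subtype.ext (Subtype.ext e))
    have hgen : zpowers z = zpowers x := Subgroup.eq_of_le_of_card_ge (zpowers_le.2 hzx)
      (by rw [Nat.card_zpowers, Nat.card_zpowers, hP.hx, h.order_of_mem hxp hzx hz1'])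
    obtain ⟨j, hj⟩ := hgen.ge (mem_zpowers x)
    exact hj ▸ (hzc c hc).zpow_right j
  have hconj : ∀ v, orderOf v = 2 → Commute v x → ∃ c, Commute c x ∧ c * a * c⁻¹ = v := by
    intro v hv hvx
    refine ⟨1, Commute.one_left x, ?_⟩
    obtain ⟨i, rfl⟩ := hC v hvx
    have h2 : ((x * a) ^ i) ^ 2 = 1 := by rw [pow_two]; exact invol_mul_self hv
    have hd : ((2 * r : ℕ) : ℤ) ∣ i * 2 := by
      rw [← hxa, orderOf_dvd_iff_zpow_eq_one, zpow_mul]
      exact_mod_cast h2
    have hr : (r : ℤ) ∣ i := by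
      obtain ⟨k, hk⟩ := hd
      exact ⟨k, by push_cast at hk; linarith⟩
    obtain ⟨k, rfl⟩ := hr
    have e : (x * a) ^ ((r : ℤ) * k) = a ^ k := by
      rw [zpow_mul, zpow_natCast, hP.comm.mul_pow, ← hP.hx, pow_orderOf_eq_one, one_mul, hP.hx]
      obtain ⟨m, hm⟩ := h.s_odd
      rw [hm, pow_succ, pow_mul, pow_two, invol_mul_self hao, one_pow, one_mul]
    rcases Int.even_or_odd k with ⟨m, rfl⟩ | ⟨m, rfl⟩
    · exfalso
      refine invol_ne_one hv ?_
      show (x * a) ^ ((r : ℤ) * (m + m)) = 1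
      rw [e, zpow_add, ← (Commute.refl a).mul_zpow, invol_mul_self hao, one_zpow]
    · show 1 * a * 1⁻¹ = (x * a) ^ ((r : ℤ) * (2 * m + 1))
      rw [e, zpow_add_one, zpow_mul, zpow_two, invol_mul_self hao, one_zpow, one_mul, inv_one, mul_one]
  have hle : Subgroup.normalizer ((P : Subgroup G) : Set G) ≤ centralizer ((P : Subgroup G) : Set G) := by
    intro n hn
    rw [hPx] at hn ⊢
    have hc := h.conj_not_inv hT hP hconj ((Subgroup.mem_normalizer_iff.1 hn x).1 (mem_zpowers x))
    exact mem_centralizer_iff.2 fun c ⟨i, hi⟩ => hi ▸ (hc.zpow_right i).eq.symm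
  have hk := MonoidHom.ker_transferSylow_isComplement' P hle
  rcases IsSimpleGroup.eq_bot_or_eq_top_of_normal (MonoidHom.transferSylow P hle).ker inferInstance with e | e
  · rw [e, Subgroup.isComplement'_bot_left] at hk
    have h2 := h.order_of_mem P.2 (hk ▸ mem_top a) hP.ha1
    exact h.s_ne_two (h2.symm.trans hao)
  · rw [e, Subgroup.isComplement'_top_left] at hk
    rw [hk, Subgroup.mem_bot] at hxP'
    exact h.hs.ne_one (by rw [← hP.hx, hxP', orderOf_one])

theorem false_of_eighteen (hr : r = 3) (h18 : Nat.card (Subgroup.centralizer ({x} : Set G)) = 18)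
    (hconj : ∀ v, orderOf v = 2 → Commute v x → ∃ c, Commute c x ∧ c * a * c⁻¹ = v) {b : G}
    (hb : orderOf b = 2) (hbx : Commute b x) (hba : b ≠ a) : False := by
  classical
  subst hr
  haveI := h.simple
  haveI : Fact (Nat.Prime 3) := ⟨Nat.prime_three⟩
  haveI : Fact (Nat.Prime 2) := ⟨Nat.prime_two⟩
  have hao := h.invol_sylow hP.ha hP.ha1
  have hx1 : x ≠ 1 := fun e => invol_ne_one hao (by
    exfalso; have := hP.hx; rw [e, orderOf_one] at this; omega)
  have hxm : x⁻¹ = x * x := inv_eq_of_mul_eq_one_right (by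
    rw [← mul_assoc, ← pow_three', ← hP.hx, pow_orderOf_eq_one])
  set C := Subgroup.centralizer ({x} : Set G) with hCdef
  obtain ⟨S⟩ : Nonempty (Sylow 3 C) := inferInstance
  have hS9 : Nat.card (S : Subgroup C) = 9 := by
    rw [S.card_eq_multiplicity, h18, show (18 : ℕ) = 3 ^ 2 * 2 by norm_num,
      Nat.factorization_mul (by norm_num) (by norm_num), Finsupp.add_apply,
      Nat.Prime.factorization_pow Nat.prime_three, Finsupp.single_eq_same,
      Nat.factorization_eq_zero_of_not_dvd (by norm_num)]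
    norm_num
  have hSi : (S : Subgroup C).index = 2 := by
    have := (S : Subgroup C).card_mul_index
    rw [hS9, h18] at this
    omega
  set O := (S : Subgroup C).map C.subtype with hOdef
  have hO9 : Nat.card O = 9 := by rw [hOdef, card_map_of_injective C.subtype_injective, hS9]
  have hO3 : IsPGroup 3 O := S.2.map _
  have hOC : ∀ o ∈ O, Commute o x := by
    rintro _ ⟨c, -, rfl⟩
    exact mem_centralizer_singleton_iff.1 c.2
  have hOcomm : ∀ o ∈ O, ∀ o' ∈ O, Commute o o' := fun o ho o' ho' =>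
    congrArg Subtype.val (IsPGroup.commutative_of_card_eq_prime_sq (p := 3) (G := O)
      (by rw [hO9]; norm_num) ⟨o, ho⟩ ⟨o', ho'⟩)
  have hmemO : ∀ c, Commute c x → Odd (orderOf c) → c ∈ O := by
    intro c hc ho
    set c' : C := ⟨c, mem_centralizer_singleton_iff.2 hc.eq⟩
    refine ⟨c', ?_, rfl⟩
    obtain ⟨k, hk⟩ := exists_pow_eq_self_of_coprime (x := c') (n := 2)
      (by rw [Subgroup.orderOf_mk]; exact Nat.coprime_two_left.2 ho)
    rw [← hk, pow_two]
    exact pow_mem (Subgroup.mul_self_mem_of_index_two hSi c') k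
  have hnO : ∀ v, orderOf v = 2 → ∀ hv : Commute v x,
      (⟨v, mem_centralizer_singleton_iff.2 hv.eq⟩ : C) ∉ (S : Subgroup C) := by
    intro v hv hvx hm
    have h2 : v ∈ O := ⟨_, hm, rfl⟩
    have h3 := h.order_of_mem hO3 h2 (invol_ne_one hv)
    omega
  set w := a * b with hwdef
  have hwO : w ∈ O := by
    refine ⟨⟨a, mem_centralizer_singleton_iff.2 hP.comm.eq.symm⟩ * ⟨b, mem_centralizer_singleton_iff.2 hbx.eq⟩,
      (Subgroup.mul_mem_iff_of_index_two hSi).2 (iff_of_false (hnO a hao hP.comm.symm) (hnO b hb hbx)), rfl⟩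
  have hw1 : w ≠ 1 := fun e => hba (((eq_inv_of_mul_eq_one_left e).trans (invol_inv hb)).symm)
  have hw3 : orderOf w = 3 := h.order_of_mem hO3 hwO hw1
  have haw : a * w * a⁻¹ = w⁻¹ := by
    rw [hwdef, invol_inv hao, mul_inv_rev, invol_inv hb, invol_inv hao,
      show a * (a * b) * a = (a * a) * b * a by group, invol_mul_self hao, one_mul]
  have hxO : x ∈ O := hmemO x (Commute.refl x) (hP.hx ▸ (by decide))
  have hwx : w ∉ zpowers x := by
    rintro ⟨i, hi⟩
    have hi : x ^ i = w := hi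
    have h1 : a * w * a⁻¹ = w := by
      rw [← hi, ← conj_zpow, hP.comm.symm.eq, mul_inv_cancel_right]
    rw [haw] at h1
    exact hw1 (eq_one_of_odd_sq (by rw [hw3]; decide) (mul_eq_one_iff_eq_inv.2 h1.symm))
  -- `O = ⟨x⟩ × ⟨w⟩`
  have hrep : ∀ o ∈ O, ∃ i j : ℕ, i < 3 ∧ j < 3 ∧ o = x ^ i * w ^ j := by
    let φ : zpowers x × zpowers w → O := fun p => ⟨(p.1 : G) * p.2,
      mul_mem (zpowers_le.2 hxO p.1.2) (zpowers_le.2 hwO p.2.2)⟩
    have hbot : zpowers x ⊓ zpowers w = ⊥ := by
      rcases ((zpowers x ⊓ zpowers w).subgroupOf (zpowers w)).eq_bot_or_eq_top_of_prime_card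
        (hp := ⟨by rw [Nat.card_zpowers, hw3]; exact Nat.prime_three⟩) with e | e
      · rw [Subgroup.subgroupOf_eq_bot, disjoint_iff, inf_eq_left.2 inf_le_right] at e
        exact e
      · exact absurd ((Subgroup.subgroupOf_eq_top.1 e) (mem_zpowers w)).1 hwx
    have hφ : Function.Injective φ := by
      rintro ⟨p₁, p₂⟩ ⟨q₁, q₂⟩ e
      have e' : (p₁ : G) * p₂ = (q₁ : G) * q₂ := congrArg Subtype.val e
      have h1 : (q₁ : G)⁻¹ * p₁ = q₂ * (p₂ : G)⁻¹ := by
        rw [eq_mul_inv_iff_mul_eq, mul_assoc, e', inv_mul_cancel_left]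
      have h2 : (q₁ : G)⁻¹ * p₁ ∈ zpowers x ⊓ zpowers w :=
        ⟨(zpowers x).mul_mem ((zpowers x).inv_mem q₁.2) p₁.2,
          h1 ▸ (zpowers w).mul_mem q₂.2 ((zpowers w).inv_mem p₂.2)⟩
      rw [hbot, Subgroup.mem_bot] at h2
      have ea : p₁ = q₁ := Subtype.ext (inv_mul_eq_one.1 h2).symm
      rw [ea, mul_right_inj] at e'
      exact Prod.ext ea (Subtype.ext e')
    have hsurj : Function.Surjective φ := ((Nat.bijective_iff_injective_and_card φ).2
      ⟨hφ, by rw [Nat.card_prod, Nat.card_zpowers, Nat.card_zpowers, hP.hx, hw3, hO9]⟩).2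
    intro o ho
    obtain ⟨⟨⟨u, hu⟩, ⟨v, hv⟩⟩, e⟩ := hsurj ⟨o, ho⟩
    rw [mem_zpowers_iff_mem_range_orderOf, Finset.mem_image] at hu hv
    obtain ⟨i, hi, rfl⟩ := hu
    obtain ⟨j, hj, rfl⟩ := hv
    rw [Finset.mem_range, hP.hx] at hi
    rw [Finset.mem_range, hw3] at hj
    exact ⟨i, j, hi, hj, (congrArg Subtype.val e).symm⟩
  -- elements of order three commuting with involutions
  let XT : G → Prop := fun v => orderOf v = 3 ∧ ∃ e, orderOf e = 2 ∧ Commute v e
  have hXTconj : ∀ g v, XT v → XT (g * v * g⁻¹) := fun g v ⟨hv, e, he, hc⟩ =>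
    ⟨(orderOf_conj_eq g v).trans hv, g * e * g⁻¹, (orderOf_conj_eq g e).trans he, (Commute.conj_iff g).2 hc⟩
  have hXTinv : ∀ v, XT v → XT v⁻¹ := fun v ⟨hv, e, he, hc⟩ =>
    ⟨(orderOf_inv v).trans hv, e, he, hc.inv_left⟩
  have hXTx : XT x := ⟨hP.hx, a, hao, hP.comm⟩
  have hXTform : ∀ v, XT v → ∃ g, v = g * x * g⁻¹ ∨ v = g * x⁻¹ * g⁻¹ := by
    rintro v ⟨hv, e, he, hc⟩
    obtain ⟨g, i, hgi⟩ := h.conj_x hT hP hv he hc
    refine ⟨g, ?_⟩
    have e3 : x ^ (3 : ℤ) = 1 := by
      rw [show (3 : ℤ) = ((3 : ℕ) : ℤ) by norm_num, zpow_natCast, ← hP.hx, pow_orderOf_eq_one]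
    have hmod : x ^ i = x ^ (i % 3) := by
      conv_lhs => rw [show i = i % 3 + 3 * (i / 3) by omega, zpow_add, zpow_mul, e3, one_zpow, mul_one]
    rcases (show i % 3 = 0 ∨ i % 3 = 1 ∨ i % 3 = 2 by omega) with e | e | e <;> rw [e] at hmod <;>
      rw [hmod] at hgi
    · rw [zpow_zero, mul_one, mul_inv_cancel] at hgi
      rw [hgi, orderOf_one] at hv
      omega
    · left; rwa [zpow_one] at hgi
    · right; rw [hxm, ← zpow_two]; exact hgi
  have hninv : ∀ g, g * x * g⁻¹ ≠ x⁻¹ := fun g hg => by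
    have hc := h.conj_not_inv hT hP hconj (n := g) (hg ▸ inv_mem (mem_zpowers x))
    rw [hc.eq, mul_inv_cancel_right] at hg
    exact hx1 (eq_one_of_odd_sq (hP.hx ▸ (by decide)) (mul_eq_one_iff_eq_inv.2 hg))
  have hwXT : ¬ XT w := by
    intro hw'
    obtain ⟨g, hg⟩ := hXTform w hw'
    refine hninv (g⁻¹ * a * g) ?_
    have e1 : a * (g * x * g⁻¹) * a⁻¹ = g * x⁻¹ * g⁻¹ := by
      rcases hg with hg | hg
      · rw [← hg, haw, hg]; group
      · have h2 : w⁻¹ = g * x * g⁻¹ := by rw [hg]; group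
        rw [← h2, ← hg, ← conj_inv, haw, inv_inv]
    calc g⁻¹ * a * g * x * (g⁻¹ * a * g)⁻¹ = g⁻¹ * (a * (g * x * g⁻¹) * a⁻¹) * g := by group
      _ = x⁻¹ := by rw [e1]; group
  -- the centraliser of `w` is a Sylow 3-subgroup
  obtain ⟨P, hOP⟩ := hO3.exists_le_sylow
  have hxP : x ∈ (P : Subgroup G) := hOP hxO
  have hPexp : ∀ p ∈ (P : Subgroup G), p ^ 3 = 1 := fun p hp => h.pow_s P.2 hp
  have hPconj : ∀ p ∈ (P : Subgroup G), p * x * p⁻¹ ∈ O := fun p hp =>
    hmemO _ (commute_conj_of_cube (hPexp p hp) (hPexp _ (mul_mem hp hxP))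
      (hPexp _ (mul_mem (inv_mem hp) hxP))) (by rw [orderOf_conj_eq, hP.hx]; decide)
  have hxw : Commute x w := (hOC w hwO).symm
  -- if `x w` commutes with no involution, `x` is fixed in `O`
  have haX : a * x * a⁻¹ = x := by rw [hP.comm.symm.eq, mul_inv_cancel_right]
  have hcaseA : ¬ XT (x * w) → ∀ o ∈ O, XT o → o = x ∨ o = x⁻¹ := by
    intro hA o ho hXo
    have hA' : ¬ XT (x * w⁻¹) := fun hh => hA (by
      have := hXTconj a _ hh
      rwa [← conj_mul, haX, ← conj_inv, haw, inv_inv] at this)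
    have hwm : w⁻¹ = w * w := inv_eq_of_mul_eq_one_right (by
      rw [← mul_assoc, ← pow_three', ← hw3, pow_orderOf_eq_one])
    obtain ⟨i, j, hi, hj, rfl⟩ := hrep o ho
    interval_cases i <;> interval_cases j <;> simp only [pow_zero, pow_one, one_mul, mul_one, pow_two] at hXo ⊢
    · exact absurd (hXo.1.symm.trans orderOf_one) (by norm_num)
    · exact absurd hXo hwXT
    · exact absurd (hXTinv _ hXo) (by rw [← hwm, inv_inv]; exact hwXT)
    · exact Or.inl trivial
    · exact absurd hXo hA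
    · exact absurd (hwm.symm ▸ hXo) hA'
    · exact Or.inr hxm.symm
    · refine absurd (hXTinv _ hXo) ?_
      rw [← hxm, mul_inv_rev, inv_inv, (hxw.inv_right.symm).eq]; exact hA'
    · refine absurd (hXTinv _ hXo) ?_
      rw [← hxm, ← hwm, mul_inv_rev, inv_inv, inv_inv, hxw.symm.eq]; exact hA
  have hPA : ¬ XT (x * w) → (P : Subgroup G) ≤ O := fun hA p hp => by
    rcases hcaseA hA _ (hPconj p hp) (hXTconj p x hXTx) with e | e
    · exact hmemO p (mul_inv_eq_iff_eq_mul.1 e) (odd_of_mem (h.odd_of_isPGroup P.2) hp)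
    · exact absurd e (hninv p)
  have hPw : ∀ p ∈ (P : Subgroup G), Commute p w := by
    intro p hp
    by_cases hPO : (P : Subgroup G) ≤ O
    · exact hOcomm p (hPO hp) w hwO
    haveI : Nontrivial (P : Subgroup G) := ⟨⟨⟨x, hxP⟩, 1, fun e => hx1 (congrArg Subtype.val e)⟩⟩
    haveI := P.2.center_nontrivial
    obtain ⟨⟨⟨z, hzP⟩, hz⟩, hz1⟩ := exists_ne (1 : Subgroup.center (P : Subgroup G))
    have hzc : ∀ d ∈ (P : Subgroup G), Commute d z := fun d hd =>
      congrArg Subtype.val (Subgroup.mem_center_iff.1 hz ⟨d, hd⟩)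
    have hzO : z ∈ O := hmemO z (hzc x hxP).symm (odd_of_mem (h.odd_of_isPGroup P.2) hzP)
    have hz1' : z ≠ 1 := fun e => hz1 (Subtype.ext (Subtype.ext e))
    have hzXT : ¬ XT z := by
      intro hzX
      obtain ⟨g, hg⟩ := hXTform z hzX
      refine hPO (ge_of_eq (Subgroup.eq_of_le_of_card_ge hOP ?_))
      rw [hO9, ← hO9]
      refine Nat.card_le_card_of_injective (fun d => ⟨g⁻¹ * d * g, hmemO _ ?_ ?_⟩) ?_
      · have h1 : Commute (g⁻¹ * (d : G) * g) (g⁻¹ * z * g) := by
          have := (Commute.conj_iff g⁻¹).2 (hzc d d.2)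
          simpa using this
        rcases hg with hg | hg
        · rwa [hg, show g⁻¹ * (g * x * g⁻¹) * g = x by group] at h1
        · rw [hg, show g⁻¹ * (g * x⁻¹ * g⁻¹) * g = x⁻¹ by group] at h1
          simpa using h1.inv_right
      · rw [show g⁻¹ * (d : G) * g = g⁻¹ * d * g⁻¹⁻¹ by rw [inv_inv], orderOf_conj_eq]
        exact odd_of_mem (h.odd_of_isPGroup P.2) d.2
      · intro d d' e
        exact Subtype.ext (mul_left_cancel (mul_right_cancel (congrArg Subtype.val e :)))
    obtain ⟨i, j, hi, hj, e⟩ := hrep z hzO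
    interval_cases i
    · rw [pow_zero, one_mul] at e
      interval_cases j
      · rw [pow_zero] at e; exact absurd e hz1'
      · rw [pow_one] at e; exact e ▸ hzc p hp
      · have hw4 : w = (w ^ 2) ^ 2 := by
          rw [← pow_mul, show 2 * 2 = 3 + 1 by norm_num, pow_succ, ← hw3, pow_orderOf_eq_one, one_mul]
        rw [hw4]; exact (e ▸ hzc p hp).pow_right 2
    all_goals
      exfalso
      refine hPO (hPA fun hA => ?_)
      interval_cases j
    · exact hzXT (by rw [e, pow_one, pow_zero, mul_one]; exact hXTx)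
    · exact hzXT (by rw [e, pow_one, pow_one]; exact hA)
    · refine hzXT ?_
      have := hXTconj a _ hA
      rw [← conj_mul, haX, haw] at this
      rw [e, pow_one, pow_two, ← inv_eq_of_mul_eq_one_right (a := w) (b := w * w)
        (by rw [← mul_assoc, ← pow_three', ← hw3, pow_orderOf_eq_one])]
      exact this
    · exact hzXT (by rw [e, pow_zero, mul_one, pow_two, ← hxm]; exact hXTinv _ hXTx)
    · refine hzXT ?_
      have := hXTinv _ (hXTconj a _ hA)
      rw [← conj_mul, haX, haw, mul_inv_rev, inv_inv] at this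
      rw [e, pow_one, pow_two, ← hxm, hxw.inv_left.eq]
      exact this
    · refine hzXT ?_
      have := hXTinv _ hA
      rw [mul_inv_rev] at this
      rw [e, pow_two, pow_two, ← hxm, ← inv_eq_of_mul_eq_one_right (a := w) (b := w * w)
        (by rw [← mul_assoc, ← pow_three', ← hw3, pow_orderOf_eq_one]), hxw.inv_inv.eq]
      exact this
  set W := Subgroup.centralizer ({w} : Set G)
  have hW3 : IsPGroup 3 W := by
    refine IsPGroup.of_card (n := (Nat.card W).primeFactorsList.length)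
      (Nat.eq_prime_pow_of_unique_prime_dvd Nat.card_pos.ne' fun {d} hd hdd => ?_)
    haveI := Fact.mk hd
    obtain ⟨c, hc⟩ := exists_prime_orderOf_dvd_card' (G := W) d hdd
    rw [← Subgroup.orderOf_coe] at hc
    rcases h.spec.prime_of_commute_s hd hc hw3 (mem_centralizer_singleton_iff.1 c.2) with rfl | rfl
    · exact absurd ⟨hw3, (c : G), hc, (mem_centralizer_singleton_iff.1 c.2 : Commute (c : G) w).symm⟩ hwXT
    · rfl
  have hPW : W = (P : Subgroup G) :=
    P.is_maximal' hW3 fun p hp => mem_centralizer_singleton_iff.2 (hPw p hp).eq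
  have haP : ∀ p ∈ (P : Subgroup G), a * p * a⁻¹ ∈ (P : Subgroup G) := by
    intro p hp
    rw [← hPW]
    refine mem_centralizer_singleton_iff.2 ?_
    have h1 := (Commute.conj_iff a).2 (hPw p hp).inv_right
    rw [← conj_inv, haw, inv_inv] at h1
    exact h1.eq
  -- all conjugates of `x` in `P` are `P`-conjugate
  have hfus : ∀ g, g * x * g⁻¹ ∈ (P : Subgroup G) →
      ∃ p ∈ (P : Subgroup G), g * x * g⁻¹ = p * x * p⁻¹ := by
    intro g hg
    have hw'x : Commute (g⁻¹ * w * g) x := by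
      have := (Commute.conj_iff g⁻¹).2 (hPw _ hg).symm
      simpa [mul_assoc] using this
    have hw'o : orderOf (g⁻¹ * w * g) = 3 := by
      rw [show g⁻¹ * w * g = g⁻¹ * w * g⁻¹⁻¹ by rw [inv_inv], orderOf_conj_eq, hw3]
    have hw'O := hmemO _ hw'x (hw'o ▸ (by decide))
    have hw'XT : ¬ XT (g⁻¹ * w * g) := fun hh => hwXT (by
      have := hXTconj g _ hh
      simpa [mul_assoc] using this)
    by_cases hA : XT (x * w)
    swap
    · have hO' := hPA hA hg
      rcases hcaseA hA _ hO' (hXTconj g x hXTx) with e | e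
      · exact ⟨1, one_mem _, by rw [e, one_mul, inv_one, mul_one]⟩
      · exact absurd e (hninv g)
    have hwm : w⁻¹ = w * w := inv_eq_of_mul_eq_one_right (by
      rw [← mul_assoc, ← pow_three', ← hw3, pow_orderOf_eq_one])
    have hA' : XT (x * w⁻¹) := by
      have := hXTconj a _ hA
      rwa [← conj_mul, haX, haw] at this
    obtain ⟨i, j, hi, hj, e⟩ := hrep _ hw'O
    have hcase : g⁻¹ * w * g = w ∨ g⁻¹ * w * g = w⁻¹ := by
      rw [e] at hw'XT hw'o ⊢
      interval_cases i <;> interval_cases j <;>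
        simp only [pow_zero, pow_one, one_mul, mul_one, pow_two] at hw'XT hw'o ⊢
      · rw [orderOf_one] at hw'o; omega
      · exact Or.inl trivial
      · exact Or.inr hwm.symm
      · exact absurd hXTx hw'XT
      · exact absurd hA hw'XT
      · exact absurd (hwm ▸ hA') hw'XT
      · exact absurd (hxm ▸ hXTinv _ hXTx) hw'XT
      · refine absurd ?_ hw'XT
        have := hXTinv _ hA'
        rwa [mul_inv_rev, inv_inv, ← hxw.inv_left.eq, hxm] at this
      · refine absurd ?_ hw'XT
        have := hXTinv _ hA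
        rwa [mul_inv_rev, ← hxw.inv_inv.eq, hxm, hwm] at this
    rcases hcase with e | e
    · refine ⟨g, hPW ▸ mem_centralizer_singleton_iff.2 ?_, rfl⟩
      rw [mul_assoc] at e
      exact (inv_mul_eq_iff_eq_mul.1 e).symm
    · refine ⟨g * a, hPW ▸ mem_centralizer_singleton_iff.2 ?_, ?_⟩
      · have e' : g * w⁻¹ * g⁻¹ = w := by rw [← e]; group
        refine mul_inv_eq_iff_eq_mul.1 ?_
        rw [show g * a * w * (g * a)⁻¹ = g * (a * w * a⁻¹) * g⁻¹ by group, haw, e']
      · rw [show g * a * x * (g * a)⁻¹ = g * (a * x * a⁻¹) * g⁻¹ by group, haX]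
  -- `|P| ≤ 27`
  set P' := (P : Subgroup G) with hP'
  let orb : P' → {o : O // XT o} := fun p =>
    ⟨⟨(p : G) * x * (p : G)⁻¹, hPconj p p.2⟩, hXTconj _ x hXTx⟩
  have horbc : Nat.card P' ≤ 27 := by
    set Cx := (Subgroup.centralizer ({x} : Set G)).subgroupOf P' with hCx
    have h1 : Nat.card Cx ≤ 9 := by
      rw [← hO9]
      refine Nat.card_le_card_of_injective (fun c => ⟨((c : P') : G),
        hmemO _ (mem_centralizer_singleton_iff.1 (Subgroup.mem_subgroupOf.1 c.2))
          (odd_of_mem (h.odd_of_isPGroup P.2) (c : P').2)⟩) fun c c' e =>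
        Subtype.ext (Subtype.ext (congrArg Subtype.val e :))
    let F : P' ⧸ Cx → {o : O // XT o} := fun q => orb q.out
    have hF : Function.Injective F := by
      intro q q' e
      rw [← QuotientGroup.out_eq' q, ← QuotientGroup.out_eq' q', QuotientGroup.eq, Subgroup.mem_subgroupOf]
      have e' : (q.out : G) * x * (q.out : G)⁻¹ = (q'.out : G) * x * (q'.out : G)⁻¹ :=
        congrArg (fun z : {o : O // XT o} => ((z : O) : G)) e
      refine mem_centralizer_singleton_iff.2 (mul_inv_eq_iff_eq_mul.1 ?_)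
      simp only [Subgroup.coe_mul, Subgroup.coe_inv]
      calc (q.out : G)⁻¹ * q'.out * x * ((q.out : G)⁻¹ * q'.out)⁻¹
          = (q.out : G)⁻¹ * ((q'.out : G) * x * (q'.out : G)⁻¹) * q.out := by group
        _ = x := by rw [← e']; group
    have h2 : Nat.card (P' ⧸ Cx) ≤ 8 := by
      refine (Nat.card_le_card_of_injective F hF).trans ?_
      haveI := Fintype.ofFinite O
      rw [Nat.card_eq_fintype_card]
      have := Fintype.card_subtype_lt (p := fun o : O => XT o) (x := (1 : O))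
        (fun hh => by have := hh.1; rw [OneMemClass.coe_one, orderOf_one] at this; omega)
      rw [← Nat.card_eq_fintype_card (α := O), hO9] at this
      omega
    obtain ⟨k, hk⟩ : ∃ k, Cx.index = 3 ^ k :=
      (Nat.dvd_prime_pow Nat.prime_three).1
        ((Subgroup.index_dvd_card Cx).trans (IsPGroup.iff_card.1 P.2).choose_spec.dvd) |>.imp fun _ hh => hh.2
    rw [← Subgroup.index_eq_card, hk] at h2
    have hk1 : k ≤ 1 := by
      by_contra hk1
      have := Nat.pow_le_pow_right (n := 3) (by norm_num) (show 2 ≤ k by omega)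
      omega
    have h3 : Cx.index ≤ 3 := hk ▸ (Nat.pow_le_pow_right (by norm_num) hk1).trans (by norm_num)
    calc Nat.card P' = Nat.card Cx * Cx.index := (Subgroup.card_mul_index Cx).symm
      _ ≤ 9 * 3 := Nat.mul_le_mul h1 h3
  -- the transfer
  have hwP : w ∈ P' := hOP hwO
  set L := (zpowers w).subgroupOf P' with hL
  haveI : L.Normal := ⟨fun l hl p => by
    rw [Subgroup.mem_subgroupOf] at hl ⊢
    obtain ⟨i, hi⟩ := hl
    have hi : w ^ i = (l : G) := hi
    refine ⟨i, ?_⟩
    show w ^ i = _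
    simp only [Subgroup.coe_mul, Subgroup.coe_inv]
    rw [← hi, ((hPw p p.2).zpow_right i).eq, mul_inv_cancel_right]⟩
  have hQ : ∀ u v : P' ⧸ L, u * v = v * u := by
    obtain ⟨k, hk⟩ := IsPGroup.iff_card.1 (P.2.to_quotient L)
    have h1 : Nat.card (P' ⧸ L) * 3 ≤ 27 := by
      have h2 := Subgroup.card_mul_index L
      rw [Nat.card_congr (subgroupOfEquivOfLe (zpowers_le.2 hwP)).toEquiv, Nat.card_zpowers, hw3,
        Subgroup.index_eq_card] at h2
      rw [mul_comm]
      exact h2.le.trans horbc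
    rw [hk] at h1
    have hk2 : k ≤ 2 := by
      by_contra hk2
      have := Nat.pow_le_pow_right (n := 3) (by norm_num) (show 3 ≤ k by omega)
      omega
    interval_cases k
    · haveI : Subsingleton (P' ⧸ L) := (Nat.card_eq_one_iff_unique.1 (by simpa using hk)).1
      exact fun u v => Subsingleton.elim _ _
    · haveI : IsCyclic (P' ⧸ L) := isCyclic_of_prime_card (p := 3) (by simpa using hk)
      intro u v
      obtain ⟨γ, hγ⟩ := IsCyclic.exists_generator (α := P' ⧸ L)
      obtain ⟨i, rfl⟩ := hγ u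
      obtain ⟨j, rfl⟩ := hγ v
      exact ((Commute.refl γ).zpow_zpow i j).eq
    · exact IsPGroup.commutative_of_card_eq_prime_sq (p := 3) (G := P' ⧸ L) hk
  letI : CommGroup (P' ⧸ L) := { (inferInstance : Group (P' ⧸ L)) with mul_comm := hQ }
  set ϕ : P' →* P' ⧸ L := QuotientGroup.mk' L with hϕ
  set xP : P' := ⟨x, hxP⟩
  have hϕx : ϕ xP ≠ 1 := by
    rw [hϕ, QuotientGroup.mk'_apply, Ne, QuotientGroup.eq_one_iff, Subgroup.mem_subgroupOf]
    rintro ⟨i, hi⟩
    have hi : w ^ i = x := hi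
    have h1 : a * x * a⁻¹ = x⁻¹ := by rw [← hi, ← conj_zpow, haw, inv_zpow]
    exact hninv a h1
  have hterm : ∀ g, ∀ hg : g * x * g⁻¹ ∈ P', ϕ ⟨g * x * g⁻¹, hg⟩ = ϕ xP := by
    intro g hg
    obtain ⟨p, hp, e⟩ := hfus g hg
    have e' : (⟨g * x * g⁻¹, hg⟩ : P') = ⟨p, hp⟩ * xP * ⟨p, hp⟩⁻¹ := Subtype.ext e
    rw [e', map_mul, map_mul, map_inv, mul_inv_cancel_comm]
  haveI : P'.FiniteIndex := inferInstance
  haveI := Fintype.ofFinite (Quotient (MulAction.orbitRel (zpowers x) (G ⧸ P')))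
  have hx3 : x ^ 3 = 1 := hP.hx ▸ pow_orderOf_eq_one x
  have htr : MonoidHom.transfer ϕ x = ϕ xP ^ P'.index := by
    rw [MonoidHom.transfer_eq_prod_quotient_orbitRel_zpowers_quot, Subgroup.index_eq_sum_minimalPeriod P' x,
      ← Finset.prod_pow_eq_pow_sum]
    refine Finset.prod_congr rfl fun q _ => ?_
    have hper : Function.minimalPeriod (x • ·) q.out ∣ 3 := by
      refine Function.IsPeriodicPt.minimalPeriod_dvd ?_
      show (fun y => x • y)^[3] q.out = q.out
      rw [smul_iterate, hx3]; exact one_smul G q.out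
    rcases (Nat.dvd_prime Nat.prime_three).1 hper with e | e
    · have hmem := QuotientGroup.out_conj_pow_minimalPeriod_mem P' x q.out
      rw [e, pow_one] at hmem
      have e2 : (⟨q.out.out⁻¹ * x ^ Function.minimalPeriod (x • ·) q.out * q.out.out,
          QuotientGroup.out_conj_pow_minimalPeriod_mem P' x q.out⟩ : P')
          = ⟨q.out.out⁻¹ * x * (q.out.out⁻¹)⁻¹, by rw [inv_inv]; exact hmem⟩ :=
        Subtype.ext (by simp only [e, pow_one, inv_inv])
      rw [e2, hterm, e, pow_one]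
    · have e2 : (⟨q.out.out⁻¹ * x ^ Function.minimalPeriod (x • ·) q.out * q.out.out,
          QuotientGroup.out_conj_pow_minimalPeriod_mem P' x q.out⟩ : P') = 1 :=
        Subtype.ext (by simp [e, hx3])
      rw [e2, map_one, e, ← map_pow, show xP ^ 3 = 1 from Subtype.ext hx3, map_one]
  have hne : MonoidHom.transfer ϕ x ≠ 1 := by
    rw [htr]
    intro e
    have hd := orderOf_dvd_of_pow_eq_one e
    have ho : orderOf (ϕ xP) = 3 := orderOf_eq_prime (by
      rw [← map_pow, show xP ^ 3 = 1 from Subtype.ext hx3, map_one]) hϕx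
    rw [ho] at hd
    exact P.not_dvd_index hd
  rcases IsSimpleGroup.eq_bot_or_eq_top_of_normal (MonoidHom.transfer ϕ).ker inferInstance with e | e
  · exact h.not_solvable (IsSimpleGroup.comm_iff_isSolvable.1 fun u v =>
      (MonoidHom.ker_eq_bot_iff _).1 e (by rw [map_mul, map_mul, mul_comm]))
  · exact hne (MonoidHom.mem_ker.1 (e ▸ mem_top x))

end Engine

theorem Engine.false_of_noCores (h : Engine G r) {T : Sylow 2 G} (hT : NoCores T) : False := by
  obtain ⟨a, x, hP⟩ := h.exists_fixPair T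
  rcases h.centralizer_cases_three hT hP with hC | ⟨hr, h18, hconj, b, hb, hbx, hba⟩
  · exact h.false_of_two hT hP hC
  · exact h.false_of_eighteen hT hP hr h18 hconj hb hbx hba

end CfsgLib.Recog.ThreeOrders
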