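import Cfsg.Agent.Lib.Recog.ThreeOrders.CaseII.Engine.CaseA
import Cfsg.Agent.Lib.Recog.ThreeOrders.CaseII.Engine.CaseK
import Cfsg.Agent.Lib.Recog.ThreeOrders.CaseII.Engine.Transfer

/-!
# Simple groups of the second case are `PSL₂(q)`, `q` odd
-/

set_option autoImplicit false
set_option linter.unusedSectionVars false
set_option linter.style.haveILetI false

namespace CfsgLib.Recog.ThreeOrders

open Subgroup CfsgLib.Invol CfsgLib.EqOrder CfsgLib.FiveOrbit
open CfsgLib.InvChar.OneComposite hiding Spec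

universe u

variable {G : Type u} [Group G] [Finite G] {r : ℕ}

theorem Engine.psl (h : Engine G r) :
    ∃ (F : Type) (_ : Field F) (_ : Fintype F), Odd (Fintype.card F) ∧
      Nonempty (G ≃* Matrix.ProjectiveSpecialLinearGroup (Fin 2) F) := by
  classical
  haveI : Fact (Nat.Prime 2) := ⟨Nat.prime_two⟩
  obtain ⟨T⟩ : Nonempty (Sylow 2 G) := inferInstance
  by_cases hB : NoCores T
  · exact (h.false_of_noCores hB).elim
  unfold NoCores at hB
  push Not at hB
  by_cases hcase : (∃ z : G, z ≠ 1 ∧ Odd (orderOf z) ∧ ∀ a ∈ (T : Subgroup G), Commute z a) ∨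
      8 ≤ Nat.card (T : Subgroup G)
  · exact (h.false_of_bounded ⟨h.exists_bound T hcase, hB⟩).elim
  push Not at hcase
  obtain ⟨hz, h8⟩ := hcase
  have h4 : Nat.card (T : Subgroup G) = 4 := by
    obtain ⟨n, hn⟩ := IsPGroup.iff_card.1 T.2
    have := h.four_le T
    rw [hn] at h8 this ⊢
    rcases n with _ | _ | _ | n
    · omega
    · omega
    · rfl
    · have := Nat.pow_le_pow_right (n := 2) two_pos (show 3 ≤ n + 3 by omega)
      omega
  exact h.psl_of_klein h4 fun z ho hc => by
    by_contra h1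
    obtain ⟨d, hd, hnd⟩ := hz z h1 ho
    exact hnd (hc d hd)

end CfsgLib.Recog.ThreeOrders
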