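import Cfsg.Agent.Lib.Recog.ThreeOrders.CaseII.Engine.Main

/-!
# Simple groups in which the only composite element order is `2 r`
-/

set_option autoImplicit false
set_option linter.unusedSectionVars false

namespace CfsgLib.Recog.ThreeOrders

universe u

variable {G : Type u} [Group G] [Finite G] {r : ℕ}

theorem engine_of_sparse (h : CfsgLib.InvChar.OneComposite.Spec G r) : Engine G r := by
  have hr := h.hr
  have h3 := h.three_le
  refine ⟨⟨?_, hr, h.r_ne_two, fun x hx => ?_, h.two_r⟩, h.simple⟩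
  · rintro p hp a b c hab hbc hca ⟨hpa, hpb, hpc⟩
    have key : ∀ {m : ℕ}, (∃ x : G, orderOf x = m) → p ∣ m → m = p ∨ m = 2 * r := by
      rintro m ⟨x, rfl⟩ hd
      rcases h.ord x with e | e | e
      · rw [e] at hd; exact absurd (Nat.dvd_one.1 hd) hp.ne_one
      · exact Or.inl ((Nat.prime_dvd_prime_iff_eq hp e).1 hd).symm
      · exact Or.inr e
    rcases key ⟨a, rfl⟩ hpa with e₁ | e₁ <;> rcases key ⟨b, rfl⟩ hpb with e₂ | e₂ <;>
      rcases key ⟨c, rfl⟩ hpc with e₃ | e₃ <;> omega
  · rcases h.ord x with e | e | e <;> rw [hx] at e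
    · omega
    · exact absurd e (by norm_num)
    · omega

theorem psl_of_sparse (h : CfsgLib.InvChar.OneComposite.Spec G r) :
    ∃ (F : Type) (_ : Field F) (_ : Fintype F), Odd (Fintype.card F) ∧
      Nonempty (G ≃* Matrix.ProjectiveSpecialLinearGroup (Fin 2) F) :=
  (engine_of_sparse h).psl

end CfsgLib.Recog.ThreeOrders
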