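import Cfsg.Agent.Lib.Recog.ThreeOrders.CaseII.Engine.Bound
import Cfsg.Agent.Lib.InvChar.OneComposite.Strong
import Cfsg.Agent.Lib.Recog.SymEight.Tools
import Cfsg.Agent.Lib.Invol.Strong

/-!
# Strong embedding and the automizer of a Sylow 2-subgroup
-/

set_option autoImplicit false
set_option linter.unusedSectionVars false
set_option linter.style.haveILetI false

namespace CfsgLib.Recog.ThreeOrders

open Subgroup CfsgLib.Invol CfsgLib.EqOrder CfsgLib.FiveOrbit
open CfsgLib.InvChar.OneComposite hiding Spec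

variable {G : Type*} [Group G] [Finite G] {r : ℕ}

namespace Engine

variable (h : Engine G r)
include h

theorem exists_conj_in {T : Sylow 2 G} {M : Subgroup G} (hTM : (T : Subgroup G) ≤ M) {u : G}
    (hu : u ∈ M) (ho : orderOf u = 2) : ∃ m ∈ M, m * u * m⁻¹ ∈ (T : Subgroup G) := by
  haveI : Fact (Nat.Prime 2) := ⟨Nat.prime_two⟩
  obtain ⟨m, hm⟩ := exists_conj_invol_mem_sylow (T.subtype hTM) (x := (⟨u, hu⟩ : M))
    (by rw [← Subgroup.orderOf_coe]; exact ho)
  exact ⟨m, m.2, hm⟩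

/-- Fusion in the abelian Sylow 2-subgroup. -/
theorem fusion {T : Sylow 2 G} {a b g : G} (ha : a ∈ (T : Subgroup G)) (hb : g * a * g⁻¹ ∈ (T : Subgroup G))
    (he : b = g * a * g⁻¹) : ∃ n ∈ normalizer ((T : Subgroup G) : Set G), n * a * n⁻¹ = b := by
  haveI : Fact (Nat.Prime 2) := ⟨Nat.prime_two⟩
  haveI : IsMulCommutative (T : Subgroup G) :=
    isMulCommutative_of fun a ha b hb => (h.comm_sylow T ha hb).eq
  obtain ⟨n, hn, hne⟩ := T.conj_eq_normalizer_conj_of_mem a g⁻¹ ha (by simpa [← SetLike.mem_coe] using hb)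
  exact ⟨n⁻¹, inv_mem hn, by rw [he]; simpa using hne.symm⟩

/-- A proper subgroup containing `N(T)` and all `C(a)`, `a ∈ T#`, is strongly embedded. -/
theorem isStronglyEmbedded {T : Sylow 2 G} {M : Subgroup G} (hne : M ≠ ⊤)
    (hN : normalizer ((T : Subgroup G) : Set G) ≤ M)
    (hC : ∀ a ∈ (T : Subgroup G), a ≠ 1 → ∀ c : G, Commute c a → c ∈ M) :
    Cfsg.IsStronglyEmbedded M := by
  obtain ⟨a, ha, ha1⟩ := h.exists_ne_one T
  refine CfsgLib.Recog.SymEight.isStronglyEmbedded_of_conj hne (hN (le_normalizer ha))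
    (h.invol_sylow ha ha1) fun u hu huo g hg => ?_
  obtain ⟨m₁, hm₁, h₁⟩ := h.exists_conj_in (le_normalizer.trans hN) hu huo
  obtain ⟨m₂, hm₂, h₂⟩ := h.exists_conj_in (le_normalizer.trans hN) hg (by rw [orderOf_conj_eq, huo])
  set k := m₂ * g * m₁⁻¹ with hk
  have he : k * (m₁ * u * m₁⁻¹) * k⁻¹ = m₂ * (g * u * g⁻¹) * m₂⁻¹ := by rw [hk]; group
  obtain ⟨n, hn, hne'⟩ := h.fusion h₁ (he ▸ h₂) rfl
  have hc : Commute (n⁻¹ * k) (m₁ * u * m₁⁻¹) := by
    show n⁻¹ * k * (m₁ * u * m₁⁻¹) = (m₁ * u * m₁⁻¹) * (n⁻¹ * k)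
    refine mul_inv_eq_iff_eq_mul.1 ?_
    calc n⁻¹ * k * (m₁ * u * m₁⁻¹) * (n⁻¹ * k)⁻¹
        = n⁻¹ * (k * (m₁ * u * m₁⁻¹) * k⁻¹) * n := by group
      _ = n⁻¹ * (n * (m₁ * u * m₁⁻¹) * n⁻¹) * n := by rw [hne']
      _ = _ := by group
  have hnk := hC _ h₁ (fun e => invol_ne_one huo (conj_eq_one_iff.1 e)) _ hc
  have : g = m₂⁻¹ * (n * (n⁻¹ * k)) * m₁ := by rw [hk]; group
  rw [this]
  exact M.mul_mem (M.mul_mem (M.inv_mem hm₂) (M.mul_mem (hN hn) hnk)) hm₁

/-- With `M` strongly embedded, `N(T)` is transitive on the involutions of `T`. -/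
theorem transitive {T : Sylow 2 G} {M : Subgroup G} (hM : Cfsg.IsStronglyEmbedded M) {a b : G}
    (ha : a ∈ (T : Subgroup G)) (ha1 : a ≠ 1) (hb : b ∈ (T : Subgroup G)) (hb1 : b ≠ 1) :
    ∃ n ∈ normalizer ((T : Subgroup G) : Set G), n * a * n⁻¹ = b := by
  obtain ⟨g, hg⟩ := isConj_iff.1 (se_isConj hM (h.invol_sylow ha ha1) (h.invol_sylow hb hb1))
  exact h.fusion ha (hg ▸ hb) hg.symm

theorem odd_range (T : Sylow 2 G) : Odd (Nat.card (autT T).range) := by
  haveI : Fact (Nat.Prime 2) := ⟨Nat.prime_two⟩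
  rw [← Subgroup.index_ker]
  have hTle : ((T : Subgroup G)).subgroupOf (normalizer ((T : Subgroup G) : Set G)) ≤ (autT T).ker :=
    fun a ha => MonoidHom.mem_ker.2 (autT_eq_one_iff.2 fun b hb =>
      h.comm_sylow T (Subgroup.mem_subgroupOf.1 ha) hb)
  exact (CfsgLib.EqOrder.odd_index_sylow_two (T.subtype le_normalizer)).of_dvd_nat
    (Subgroup.index_dvd_of_le hTle)

theorem range_ne_two {T : Sylow 2 G} (l : (autT T).range) : orderOf l ≠ 2 := fun e =>
  Nat.not_even_iff_odd.2 ((h.odd_range T).of_dvd_nat (orderOf_dvd_natCard l)) (by rw [e]; exact even_two)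

/-- An element of prime order of the automizer is induced by one of the same order. -/
theorem lift_prime {T : Sylow 2 G} {l : (autT T).range} {q : ℕ} (hq : q.Prime) (hl : orderOf l = q) :
    ∃ n : normalizer ((T : Subgroup G) : Set G),
      autT T n = (l : MulAut (T : Subgroup G)) ∧ orderOf (n : G) = q := by
  haveI := Fact.mk hq
  have hq2 : q ≠ 2 := fun e => h.range_ne_two l (hl.trans e)
  obtain ⟨n, hn⟩ := l.2
  have hd : q ∣ orderOf (n : G) := by
    rw [← hl, Subgroup.orderOf_coe, ← Subgroup.orderOf_coe l, ← hn]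
    exact orderOf_map_dvd _ n
  -- pass to the `q`-part
  obtain ⟨k, m, hm, hcard⟩ := Nat.exists_eq_pow_mul_and_not_dvd (orderOf_pos (n : G)).ne' q hq.ne_one
  have hmq : m.Coprime q := ((hq.coprime_iff_not_dvd).2 hm).symm
  obtain ⟨u, -, hu⟩ := Nat.exists_mul_mod_eq_one_of_coprime hmq hq.one_lt
  set n' := n ^ (m * u) with hn'
  have hmap : autT T n' = (l : MulAut (T : Subgroup G)) := by
    rw [hn', map_pow, hn, ← SubgroupClass.coe_pow, ← Nat.mod_add_div (m * u) q, hu, pow_add, pow_one,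
      pow_mul, ← hl, pow_orderOf_eq_one, one_pow, mul_one]
  have hdvd : orderOf (n' : G) ∣ q ^ k := orderOf_dvd_of_pow_eq_one (by
    rw [hn', SubgroupClass.coe_pow, ← pow_mul, show m * u * q ^ k = q ^ k * m * u by ring, ← hcard,
      pow_mul, pow_orderOf_eq_one, one_pow])
  have hd' : q ∣ orderOf (n' : G) := by
    rw [← hl, Subgroup.orderOf_coe, ← Subgroup.orderOf_coe l, ← hmap]
    exact orderOf_map_dvd _ n'
  refine ⟨n', hmap, ?_⟩
  have hodd : Odd (orderOf (n' : G)) := ((hq.odd_of_ne_two hq2).pow).of_dvd_nat hdvd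
  by_contra hne
  -- then the `q`-th power centralises `T`
  have h1 : (n' : G) ^ q ≠ 1 := fun e =>
    hne (Nat.dvd_antisymm (orderOf_dvd_of_pow_eq_one e) hd')
  obtain ⟨a, ha, ha1⟩ := h.exists_ne_one T
  have hc : Commute ((n' ^ q : normalizer ((T : Subgroup G) : Set G)) : G) a :=
    autT_eq_one_iff.1 (by rw [map_pow, hmap, ← SubgroupClass.coe_pow, ← hl, pow_orderOf_eq_one]; rfl) a ha
  rw [SubgroupClass.coe_pow] at hc
  have ho := h.order_of_invol (h.invol_sylow ha ha1) hc (hodd.of_dvd_nat (orderOf_pow_dvd q)) h1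
  have hsd : r ∣ orderOf (n' : G) := ho ▸ orderOf_pow_dvd q
  have hqr : q = r :=
    ((Nat.prime_dvd_prime_iff_eq h.hs hq).1 (h.hs.dvd_of_dvd_pow (hsd.trans hdvd))).symm
  exact hne ((h.order_s hodd hsd).trans hqr.symm)

/-- In the automizer `r` divides no composite order. -/
theorem range_order_s {T : Sylow 2 G} {l : (autT T).range} (hd : r ∣ orderOf l) : orderOf l = r := by
  obtain ⟨n, hn⟩ := l.2
  have h1 : orderOf l ∣ orderOf (n : G) := by
    rw [Subgroup.orderOf_coe, ← Subgroup.orderOf_coe l, ← hn]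
    exact orderOf_map_dvd _ n
  rcases h.spec.s_order (hd.trans h1) with e | e <;> rw [e] at h1
  · exact Nat.dvd_antisymm h1 hd
  · exact Nat.dvd_antisymm ((Nat.coprime_two_right.2
      ((h.odd_range T).of_dvd_nat (orderOf_dvd_natCard l))).dvd_of_dvd_mul_left h1) hd

/-- No element of order `r q` in the automizer. -/
theorem not_commute_range {T : Sylow 2 G} {l m : (autT T).range} {q : ℕ} (hl : orderOf l = r)
    (hq : q.Prime) (hqr : q ≠ r) (hm : orderOf m = q) : ¬ Commute l m := fun hc => by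
  have he := hc.orderOf_mul_eq_mul_orderOf_of_coprime
    (by rw [hl, hm]; exact (Nat.coprime_primes h.hs hq).2 (Ne.symm hqr))
  rw [hl, hm] at he
  have := h.range_order_s (he ▸ dvd_mul_right r q)
  rw [he] at this
  exact hq.one_lt.ne' (Nat.eq_of_mul_eq_mul_left h.hs.pos (this.trans (mul_one r).symm))

/-- An element of prime order other than `r` normalising `T` moves all its involutions. -/
theorem fpf_of_ne {T : Sylow 2 G} {n a : G} {q : ℕ} (hq : q.Prime) (hq2 : q ≠ 2) (hqr : q ≠ r)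
    (hn : orderOf n = q) (ha : a ∈ (T : Subgroup G)) (hc : Commute n a) : a = 1 := by
  by_contra ha1
  exact hqr (hn ▸ h.order_of_invol (h.invol_sylow ha ha1) hc (hn.symm ▸ hq.odd_of_ne_two hq2)
    (fun e => hq.one_lt.ne' (hn ▸ e ▸ orderOf_one)))

theorem isSolvable_range (T : Sylow 2 G) : Group.IsSolvable (autT T).range :=
  CfsgLib.FT.odd_order_solvable_of CfsgLib.FT.typePBase CfsgLib.FT.fieldLemma (h.odd_range T)

end Engine

end CfsgLib.Recog.ThreeOrders
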